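import Cfsg.Agent.Lib.CoreEmbedded.Core
import Cfsg.Agent.S0205
import Cfsg.Agent.S0217
import Mathlib.GroupTheory.Transfer

/-!
# Abelian Sylow `2`-subgroups with a freely acting normalizer

The elements of odd order in the centralizers of involutions lie in the core, provided the
Sylow `2`-subgroup has rank at least three.
-/

set_option autoImplicit false
set_option linter.unusedSectionVars false

namespace CfsgLib.CoreEmbedded

universe u

variable {G : Type u} [Group G] [Finite G]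

/-- The core of the centralizer of an element. -/
noncomputable def theta (a : G) : Subgroup G :=
  (Cfsg.pPrimeCore 2 (Subgroup.centralizer ({a} : Set G))).map
    (Subgroup.centralizer ({a} : Set G)).subtype

variable (P : Sylow 2 G) (hab : ∀ x ∈ (P : Subgroup G), ∀ y ∈ (P : Subgroup G), x * y = y * x)
  (hfree : ∀ n ∈ Subgroup.normalizer ((P : Subgroup G) : Set G), ∀ x ∈ (P : Subgroup G), x ≠ 1 →
    n * x * n⁻¹ = x → n ∈ Subgroup.centralizer ((P : Subgroup G) : Set G))
include hab hfree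

theorem exists_complement {a : G} (haP : a ∈ (P : Subgroup G)) (ha : orderOf a = 2) :
    ∃ K : Subgroup (Subgroup.centralizer ({a} : Set G)), K.Normal ∧
      K.IsComplement' ((P : Subgroup G).subgroupOf (Subgroup.centralizer ({a} : Set G))) := by
  have : Fact (Nat.Prime 2) := ⟨Nat.prime_two⟩
  set C := Subgroup.centralizer ({a} : Set G) with hC
  have hPC : (P : Subgroup G) ≤ C := fun x hx =>
    Subgroup.mem_centralizer_singleton_iff.2 (hab x hx a haP)
  have hn : Subgroup.normalizer (((P.subtype hPC : Sylow 2 C) : Subgroup C) : Set C) ≤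
      Subgroup.centralizer (((P.subtype hPC : Sylow 2 C) : Subgroup C) : Set C) := by
    intro n hn
    rw [Sylow.coe_subtype] at hn ⊢
    have hnP : (n : G) ∈ Subgroup.normalizer ((P : Subgroup G) : Set G) := by
      refine Subgroup.mem_normalizer_iff.2 fun y => ?_
      constructor
      · intro hy
        simpa [Subgroup.mem_subgroupOf] using
          (Subgroup.mem_normalizer_iff.1 hn ⟨y, hPC hy⟩).1 hy
      · intro hy
        have hyC : y ∈ C := by
          have := C.mul_mem (C.mul_mem (C.inv_mem n.2) (hPC hy)) n.2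
          simpa [mul_assoc] using this
        simpa [Subgroup.mem_subgroupOf] using
          (Subgroup.mem_normalizer_iff.1 hn ⟨y, hyC⟩).2 (by simpa [Subgroup.mem_subgroupOf] using hy)
    have ha1 : a ≠ 1 := by rintro rfl; rw [orderOf_one] at ha; omega
    have hnC := hfree _ hnP a haP ha1
      (mul_inv_eq_iff_eq_mul.2 (Subgroup.mem_centralizer_singleton_iff.1 n.2))
    exact Subgroup.mem_centralizer_iff.2 fun y hy =>
      Subtype.ext (Subgroup.mem_centralizer_iff.1 hnC y hy)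
  have := MonoidHom.ker_transferSylow_isComplement' (P.subtype hPC) hn
  exact ⟨_, inferInstance, this⟩

theorem theta_spec {a : G} (haP : a ∈ (P : Subgroup G)) (ha : orderOf a = 2) :
    (∀ x, x ∈ theta a ↔ Commute x a ∧ Odd (orderOf x)) ∧
      ∀ c, Commute c a → ∃ k ∈ theta a, ∃ p ∈ (P : Subgroup G), c = k * p := by
  have : Fact (Nat.Prime 2) := ⟨Nat.prime_two⟩
  set C := Subgroup.centralizer ({a} : Set G) with hC
  obtain ⟨K, hKn, hK⟩ : ∃ K : Subgroup C, K.Normal ∧
      K.IsComplement' ((P : Subgroup G).subgroupOf C) := exists_complement P hab hfree haP ha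
  have hPC : (P : Subgroup G) ≤ C := fun x hx =>
    Subgroup.mem_centralizer_singleton_iff.2 (hab x hx a haP)
  obtain ⟨n, hn⟩ := IsPGroup.iff_card.1 P.isPGroup'
  have hidx : K.index = 2 ^ n := by
    rw [hK.symm.index_eq_card, Nat.card_congr (Subgroup.subgroupOfEquivOfLe hPC).toEquiv, hn]
  have hKodd : (Nat.card K).Coprime 2 := by
    rw [← hK.index_eq_card]
    have := (P.subtype hPC).not_dvd_index
    rw [Sylow.coe_subtype] at this
    exact (Nat.prime_two.coprime_iff_not_dvd.2 this).symm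
  have hKle : K ≤ Cfsg.pPrimeCore 2 C := CfsgLib.Solvable.le_pPrimeCore hKn hKodd
  have hmem : ∀ x : C, Odd (orderOf x) → x ∈ K := by
    intro x hx
    refine (Invol.BlockCol.regular_iff_mem K ?_ hidx x).1
      (fun h => Nat.not_even_iff_odd.2 hx (even_iff_two_dvd.2 h))
    exact Nat.prime_two.coprime_iff_not_dvd.1 hKodd.symm
  constructor
  · intro x
    constructor
    · rintro ⟨y, hy, rfl⟩
      refine ⟨Subgroup.mem_centralizer_singleton_iff.1 y.2, ?_⟩
      have h1 : orderOf (⟨y, hy⟩ : Cfsg.pPrimeCore 2 C) ∣ Nat.card (Cfsg.pPrimeCore 2 C) :=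
        orderOf_dvd_natCard _
      rw [Subgroup.orderOf_mk] at h1
      rw [Subgroup.coe_subtype, Subgroup.orderOf_coe]
      exact Odd.of_dvd_nat
        (Nat.coprime_two_right.1 (CfsgLib.Solvable.pPrimeCore_card_coprime 2 C)) h1
    · rintro ⟨hx, hodd⟩
      exact ⟨⟨x, Subgroup.mem_centralizer_singleton_iff.2 hx⟩,
        hKle (hmem _ (by rwa [Subgroup.orderOf_mk])), rfl⟩
  · intro c hc
    obtain ⟨⟨k, p⟩, hkp⟩ := hK.2 ⟨c, Subgroup.mem_centralizer_singleton_iff.2 hc⟩
    exact ⟨_, ⟨(k : C), hKle k.2, rfl⟩, _, p.2, (congrArg Subtype.val hkp).symm⟩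

/-- The elements of odd order centralizing an involution lie in the core. -/
theorem odd_mem_core {A : Subgroup G} (hA : A ≤ (P : Subgroup G)) (hA2 : ∀ a ∈ A, a ^ 2 = 1)
    (hA3 : 2 ^ 3 ≤ Nat.card A)
    (hAall : ∀ a ∈ (P : Subgroup G), orderOf a = 2 → a ∈ A)
    {t c : G} (ht : orderOf t = 2) (hc : Commute c t) (hodd : Odd (orderOf c)) :
    c ∈ Cfsg.pPrimeCore 2 G := by
  classical
  have : Fact (Nat.Prime 2) := ⟨Nat.prime_two⟩
  cases nonempty_fintype G
  set N := Subgroup.normalizer ((P : Subgroup G) : Set G) with hN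
  have hinv : ∀ a ∈ A, a ≠ 1 → orderOf a = 2 := fun a ha ha1 =>
    orderOf_eq_prime (hA2 a ha) ha1
  have hspec := fun a (ha : a ∈ A) (ha1 : a ≠ 1) =>
    theta_spec P hab hfree (hA ha) (hinv a ha ha1)
  obtain ⟨hWodd, -⟩ := Cfsg.Agent.S0217.result (p := 2) A
    (fun x hx y hy => hab x (hA hx) y (hA hy)) hA2 hA3 theta
    (fun a ha ha1 x hx => Subgroup.mem_centralizer_singleton_iff.2 (((hspec a ha ha1).1 x).1 hx).1.eq)
    (fun a ha ha1 h2 => by
      obtain ⟨⟨s, hs⟩, hs2⟩ := exists_prime_orderOf_dvd_card' 2 h2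
      rw [Subgroup.orderOf_mk] at hs2
      have := (((hspec a ha ha1).1 s).1 hs).2
      rw [hs2] at this
      exact absurd this (by decide))
    (fun a ha ha1 b hb x hx => ((hspec a ha ha1).1 _).2 (by
      obtain ⟨hxa, hxo⟩ := ((hspec a ha ha1).1 x).1 hx
      have hba : Commute b a := hab b (hA hb) a (hA ha)
      exact ⟨(hba.mul_left hxa).mul_left hba.inv_left, by rwa [Invol.orderOf_conj]⟩))
    (fun a ha ha1 => by
      refine Cfsg.Agent.S0205.result ?_
      rw [← Nat.not_even_iff_odd]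
      intro he
      obtain ⟨⟨s, hs⟩, hs2⟩ := exists_prime_orderOf_dvd_card' 2 (even_iff_two_dvd.1 he)
      rw [Subgroup.orderOf_mk] at hs2
      have := (((hspec a ha ha1).1 s).1 hs).2
      rw [hs2] at this
      exact absurd this (by decide))
    (fun a ha ha1 b hb hb1 x hx => ((hspec b hb hb1).1 x).2
      ⟨Subgroup.mem_centralizer_singleton_iff.1 hx.2, (((hspec a ha ha1).1 x).1 hx.1).2⟩)
  set W := ⨆ a : {a : G // a ∈ A ∧ a ≠ 1}, theta a.1 with hW
  have hle : ∀ a ∈ A, a ≠ 1 → theta a ≤ W := fun a ha ha1 =>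
    le_iSup (fun a : {a : G // a ∈ A ∧ a ≠ 1} => theta a.1) ⟨a, ha, ha1⟩
  have hne1 : ∀ {a : G}, orderOf a = 2 → a ≠ 1 := by
    rintro a ha rfl; rw [orderOf_one] at ha; omega
  -- the normalizer of `P` normalizes `W`
  have hNW : N ≤ Subgroup.normalizer (W : Set G) := by
    have key : ∀ n ∈ N, ∀ x ∈ W, n * x * n⁻¹ ∈ W := by
      intro n hn x hx
      suffices h : W ≤ W.comap (MulAut.conj n).toMonoidHom by exact h hx
      refine iSup_le ?_
      rintro ⟨a, ha, ha1⟩ y hy
      have hna : n * a * n⁻¹ ∈ A := hAall _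
        ((Subgroup.mem_normalizer_iff.1 hn a).1 (hA ha)) (by rw [Invol.orderOf_conj, hinv a ha ha1])
      have hna1 : n * a * n⁻¹ ≠ 1 := by simpa using ha1
      obtain ⟨hya, hyo⟩ := ((hspec a ha ha1).1 y).1 hy
      refine hle _ hna hna1 (((hspec _ hna hna1).1 _).2 ⟨?_, ?_⟩)
      · simpa using hya.map (MulAut.conj n).toMonoidHom
      · simpa [Invol.orderOf_conj] using hyo
    intro n hn
    refine Subgroup.mem_normalizer_iff.2 fun x => ⟨key n hn x, fun h => ?_⟩
    simpa [mul_assoc] using key n⁻¹ (N.inv_mem hn) _ h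
  set H := Subgroup.normalizer (W : Set G) with hH
  have hPH : (P : Subgroup G) ≤ H := Subgroup.le_normalizer.trans hNW
  have hCH : ∀ a ∈ A, a ≠ 1 → Subgroup.centralizer ({a} : Set G) ≤ H := by
    intro a ha ha1 x hx
    obtain ⟨k, hk, p, hp, rfl⟩ :=
      (hspec a ha ha1).2 x (Subgroup.mem_centralizer_singleton_iff.1 hx)
    exact H.mul_mem (Subgroup.le_normalizer (hle a ha ha1 hk)) (hPH hp)
  -- the involutions of `H` are conjugate in `H` into `P`
  have hinvH : ∀ s ∈ H, orderOf s = 2 → ∃ g ∈ H, g * s * g⁻¹ ∈ A ∧ g * s * g⁻¹ ≠ 1 := by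
    intro s hs hs2
    obtain ⟨Q, hQ⟩ := IsPGroup.exists_le_sylow (p := 2) (P := Subgroup.zpowers (⟨s, hs⟩ : H))
      (IsPGroup.of_card (n := 1) (by rw [Nat.card_zpowers, Subgroup.orderOf_mk, hs2, pow_one]))
    obtain ⟨g, hg⟩ := MulAction.exists_smul_eq H Q (P.subtype hPH)
    have : g * (⟨s, hs⟩ : H) * g⁻¹ ∈ ((P.subtype hPH : Sylow 2 H) : Subgroup H) := by
      rw [← hg, Sylow.coe_subgroup_smul, Subgroup.mem_pointwise_smul_iff_inv_smul_mem]
      simpa [mul_assoc, MulAut.conj] using hQ (Subgroup.mem_zpowers _)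
    rw [Sylow.coe_subtype, Subgroup.mem_subgroupOf] at this
    exact ⟨g, g.2, hAall _ (by simpa using this) (by rw [Invol.orderOf_conj, hs2]),
      hne1 (by rw [Invol.orderOf_conj, hs2])⟩
  -- every involution is conjugate into `P`
  have hinvG : ∀ s : G, orderOf s = 2 → ∃ g : G, g * s * g⁻¹ ∈ A ∧ g * s * g⁻¹ ≠ 1 := by
    intro s hs2
    obtain ⟨Q, hQ⟩ := IsPGroup.exists_le_sylow (p := 2) (P := Subgroup.zpowers s)
      (IsPGroup.of_card (n := 1) (by rw [Nat.card_zpowers, hs2, pow_one]))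
    obtain ⟨g, hg⟩ := MulAction.exists_smul_eq G Q P
    have : g * s * g⁻¹ ∈ (P : Subgroup G) := by
      rw [← hg, Sylow.coe_subgroup_smul, Subgroup.mem_pointwise_smul_iff_inv_smul_mem]
      simpa [mul_assoc, MulAut.conj] using hQ (Subgroup.mem_zpowers _)
    exact ⟨g, hAall _ this (by rw [Invol.orderOf_conj, hs2]),
      hne1 (by rw [Invol.orderOf_conj, hs2])⟩
  have hWcore : W ≤ Cfsg.pPrimeCore 2 G := by
    by_cases htop : H = ⊤
    · exact CfsgLib.Solvable.le_pPrimeCore (Subgroup.normalizer_eq_top_iff.1 htop)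
        ((Nat.prime_two.coprime_iff_not_dvd.2 hWodd).symm)
    · obtain ⟨a, haA, ha1⟩ : ∃ a ∈ A, a ≠ 1 := by
        by_contra hall
        push Not at hall
        have : A = ⊥ := (Subgroup.eq_bot_iff_forall A).2 hall
        rw [this, Subgroup.card_bot] at hA3
        omega
      have heven : Even (Nat.card H) :=
        Invol.even_card_of_orderOf_two_mem (hinv a haA ha1) (hPH (hA haA))
      have hcent : ∀ s ∈ H, orderOf s = 2 → ∀ x, Commute x s →
          x ∈ H ∧ (Odd (orderOf x) → x ∈ W) := by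
        intro s hs hs2 x hx
        obtain ⟨g, hg, hgA, hg1⟩ := hinvH s hs hs2
        have hgx : Commute (g * x * g⁻¹) (g * s * g⁻¹) := by
          simpa using hx.map (MulAut.conj g).toMonoidHom
        refine ⟨?_, fun ho => ?_⟩
        · have h1 : g * x * g⁻¹ ∈ H :=
            hCH _ hgA hg1 (Subgroup.mem_centralizer_singleton_iff.2 hgx.eq)
          simpa [mul_assoc] using H.mul_mem (H.mul_mem (H.inv_mem hg) h1) hg
        · have h1 : g * x * g⁻¹ ∈ W :=
            hle _ hgA hg1 (((hspec _ hgA hg1).1 _).2 ⟨hgx, by rwa [Invol.orderOf_conj]⟩)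
          simpa [mul_assoc] using (Subgroup.mem_normalizer_iff.1 (H.inv_mem hg) _).1 h1
      have hse : Cfsg.IsStronglyEmbedded H := by
        refine (Invol.isStronglyEmbedded_iff_centralizers htop heven).2 ⟨fun s hs hs2 x hx =>
          (hcent s hs hs2 x (Subgroup.mem_centralizer_singleton_iff.1 hx)).1, ?_⟩
        intro s hs r hr hs2 hr2 hconj
        obtain ⟨g, hg, hgA, -⟩ := hinvH s hs hs2
        obtain ⟨f, hf, hfA, -⟩ := hinvH r hr hr2
        obtain ⟨d, rfl⟩ := isConj_iff.1 hconj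
        have : IsMulCommutative (P : Subgroup G) :=
          ⟨⟨fun x y => Subtype.ext (hab x x.2 y y.2)⟩⟩
        obtain ⟨n, hn, e⟩ := P.conj_eq_normalizer_conj_of_mem (g * s * g⁻¹) (g * d⁻¹ * f⁻¹)
          (hA hgA) (show (g * d⁻¹ * f⁻¹)⁻¹ * (g * s * g⁻¹) * (g * d⁻¹ * f⁻¹) ∈ (P : Subgroup G) by
            simpa [mul_assoc] using hA hfA)
        refine ⟨f⁻¹ * n⁻¹ * g, H.mul_mem (H.mul_mem (H.inv_mem hf) (hNW (N.inv_mem hn))) hg, ?_⟩
        calc f⁻¹ * n⁻¹ * g * s * (f⁻¹ * n⁻¹ * g)⁻¹ = f⁻¹ * (n⁻¹ * (g * s * g⁻¹) * n) * f := by group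
          _ = _ := by rw [← e]; group
      exact Hyp.le_pPrimeCore (H := H) ⟨hse, Subgroup.le_normalizer, le_rfl,
        Nat.not_even_iff_odd.1 (fun he => hWodd (even_iff_two_dvd.1 he)),
        fun s hs hs2 x hx hxo => (hcent s hs hs2 x hx).2 hxo⟩
  obtain ⟨g, hgA, hg1⟩ := hinvG t ht
  have hgc : g * c * g⁻¹ ∈ Cfsg.pPrimeCore 2 G := hWcore (hle _ hgA hg1
    (((hspec _ hgA hg1).1 _).2 ⟨by simpa using hc.map (MulAut.conj g).toMonoidHom,
      by rwa [Invol.orderOf_conj]⟩))
  have := (CfsgLib.Solvable.pPrimeCore_normal 2 G).conj_mem _ hgc g⁻¹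
  simpa [mul_assoc] using this

end CfsgLib.CoreEmbedded
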