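import Cfsg.Agent.Lib.Invol.SectionAverage
import Cfsg.Agent.Lib.Invol.Dihedral
import Cfsg.Agent.Lib.SEmb.Counting
import Cfsg.Agent.Lib.BlockReg.Regular
import Cfsg.Agent.Lib.Solvable.Core

/-!
# Pairs in unions of classes, and elements whose `2`-part is an involution
-/

set_option autoImplicit false
set_option linter.unusedSectionVars false

open scoped ComplexConjugate

namespace CfsgLib.CoreEmbedded

universe u

variable {G : Type u} [Group G] [Fintype G]

/-- Invariance of a finite set under conjugation. -/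
def Inv (A : Finset G) : Prop := ∀ a ∈ A, ∀ h : G, h * a * h⁻¹ ∈ A

theorem sum_mul_right {A : Finset G} (hA : Inv A) (χ : Cfsg.IrrCharacter G) (g : G) :
    (∑ a ∈ A, (χ : G → ℂ) (a * g)) * (χ : G → ℂ) 1 =
      (∑ a ∈ A, (χ : G → ℂ) a) * (χ : G → ℂ) g := by
  have hG : (Fintype.card G : ℂ) ≠ 0 := Nat.cast_ne_zero.2 Fintype.card_ne_zero
  refine mul_left_cancel₀ hG ?_
  have h1 : ∀ h : G, ∑ a ∈ A, (χ : G → ℂ) (a * g) = ∑ a ∈ A, (χ : G → ℂ) (h * a * h⁻¹ * g) := by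
    intro h
    refine (Finset.sum_bij (fun a _ => h * a * h⁻¹) (fun a ha => hA a ha h) ?_ ?_ ?_).symm
    · intro a _ b _ e; simpa using e
    · intro b hb
      exact ⟨h⁻¹ * b * h, by simpa using hA b hb h⁻¹, by group⟩
    · intro a _; rfl
  have h2 : (Fintype.card G : ℂ) * ∑ a ∈ A, (χ : G → ℂ) (a * g) =
      ∑ a ∈ A, ∑ h : G, (χ : G → ℂ) (h * a * h⁻¹ * g) := by
    rw [Finset.sum_comm, ← Finset.sum_congr rfl fun h _ => h1 h, Finset.sum_const,
      Finset.card_univ, nsmul_eq_mul]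
  rw [← mul_assoc, h2, Finset.sum_mul, Finset.sum_congr rfl fun a _ =>
    CfsgLib.Blk83.sum_conj_mul χ a g, ← Finset.mul_sum, Finset.sum_mul]

/-- The class algebra formula for two invariant sets. -/
theorem card_pairs [DecidableEq G] {A B : Finset G} (hA : Inv A) (hB : Inv B) (Z : Finset G) :
    (Fintype.card G : ℂ) * (((A ×ˢ B).filter fun p => (p.1 * p.2)⁻¹ ∈ Z).card : ℂ) =
      ∑ χ : Cfsg.IrrCharacter G, (∑ a ∈ A, (χ : G → ℂ) a) * (∑ b ∈ B, (χ : G → ℂ) b) *
        (∑ z ∈ Z, (χ : G → ℂ) z) / (χ : G → ℂ) 1 := by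
  have hterm : ∀ χ : Cfsg.IrrCharacter G, (∑ a ∈ A, (χ : G → ℂ) a) * (∑ b ∈ B, (χ : G → ℂ) b) *
      (∑ z ∈ Z, (χ : G → ℂ) z) / (χ : G → ℂ) 1 =
      ∑ p ∈ A ×ˢ B, ∑ z ∈ Z, (χ : G → ℂ) 1 * (χ : G → ℂ) (p.1 * p.2 * z) := by
    intro χ
    have h1 := CfsgLib.Char.IsIrrCharacter.apply_one_ne_zero χ.2
    rw [div_eq_iff h1, Finset.sum_product]
    have e : ∑ a ∈ A, ∑ b ∈ B, ∑ z ∈ Z, (χ : G → ℂ) 1 * (χ : G → ℂ) (a * b * z) =
        ∑ z ∈ Z, ∑ b ∈ B, (∑ a ∈ A, (χ : G → ℂ) (a * (b * z))) * (χ : G → ℂ) 1 := by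
      rw [Finset.sum_comm (s := A)]
      rw [Finset.sum_comm (s := Z)]
      refine Finset.sum_congr rfl fun b _ => ?_
      rw [Finset.sum_comm]
      refine Finset.sum_congr rfl fun z _ => ?_
      rw [Finset.sum_mul]
      exact Finset.sum_congr rfl fun a _ => by rw [mul_assoc, mul_comm]
    dsimp only
    rw [e, Finset.mul_sum Z, Finset.sum_mul Z]
    refine Finset.sum_congr rfl fun z _ => ?_
    rw [Finset.sum_congr rfl fun b _ => sum_mul_right hA χ (b * z), ← Finset.mul_sum, mul_assoc,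
      mul_assoc, sum_mul_right hB χ]
  rw [Finset.sum_congr rfl fun χ _ => hterm χ, Finset.sum_comm]
  simp only [Finset.sum_comm (s := (Finset.univ : Finset (Cfsg.IrrCharacter G))),
    CfsgLib.Char.sum_apply_one_mul, Nat.card_eq_fintype_card]
  rw [mul_comm, ← nsmul_eq_mul, ← Finset.sum_const, Finset.sum_filter]
  refine Finset.sum_congr rfl fun p _ => ?_
  rw [Finset.sum_congr rfl fun z _ => if_congr (mul_eq_one_iff_inv_eq (a := p.1 * p.2) (b := z)) rfl
    rfl, Finset.sum_ite_eq]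

/-! ### Elements whose `2`-part is an involution -/

/-- The odd part of the order of the group. -/
noncomputable def oddPart (G : Type*) : ℕ := ordCompl[2] (Nat.card G)

theorem oddPart_odd : Odd (oddPart G) := by
  rw [← Nat.not_even_iff_odd, even_iff_two_dvd]
  exact Nat.not_dvd_ordCompl Nat.prime_two Nat.card_pos.ne'

theorem pow_oddPart_of_odd {c : G} (hc : Odd (orderOf c)) : c ^ oddPart G = 1 := by
  refine orderOf_dvd_iff_pow_eq_one.1 ?_
  refine Nat.Coprime.dvd_of_dvd_mul_left ((Nat.coprime_two_right.2 hc).pow_right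
    ((Nat.card G).factorization 2)) ?_
  rw [oddPart, Nat.ordProj_mul_ordCompl_eq_self]
  exact orderOf_dvd_natCard c

theorem pow_oddPart_invol {s : G} (hs : orderOf s = 2) : s ^ oddPart G = s := by
  obtain ⟨j, hj⟩ := oddPart_odd (G := G)
  rw [hj, pow_succ, pow_mul, pow_two, Invol.mul_self_eq_one hs, one_pow, one_mul]

theorem pow_oddPart_mul {s c : G} (hs : orderOf s = 2) (hsc : Commute c s) (hc : Odd (orderOf c)) :
    (s * c) ^ oddPart G = s := by
  rw [hsc.symm.mul_pow, pow_oddPart_invol hs, pow_oddPart_of_odd hc, mul_one]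

/-- An element whose `2`-part is an involution. -/
def Near (y : G) : Prop :=
  ∃ s c : G, orderOf s = 2 ∧ Commute c s ∧ Odd (orderOf c) ∧ y = s * c

theorem near_conj {y : G} (hy : Near y) (g : G) : Near (g * y * g⁻¹) := by
  obtain ⟨s, c, hs, hsc, hc, rfl⟩ := hy
  refine ⟨g * s * g⁻¹, g * c * g⁻¹, by rw [Invol.orderOf_conj, hs], ?_,
    by rwa [Invol.orderOf_conj], by group⟩
  show g * c * g⁻¹ * (g * s * g⁻¹) = g * s * g⁻¹ * (g * c * g⁻¹)
  calc g * c * g⁻¹ * (g * s * g⁻¹) = g * (c * s) * g⁻¹ := by group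
    _ = g * (s * c) * g⁻¹ := by rw [hsc.eq]
    _ = g * s * g⁻¹ * (g * c * g⁻¹) := by group

theorem near_inv {y : G} (hy : Near y) : Near y⁻¹ := by
  obtain ⟨s, c, hs, hsc, hc, rfl⟩ := hy
  refine ⟨s, c⁻¹, hs, hsc.inv_left, by rwa [orderOf_inv], ?_⟩
  rw [mul_inv_rev, Invol.inv_eq_self hs, hsc.inv_left.eq]

theorem not_near_one : ¬ Near (1 : G) := by
  rintro ⟨s, c, hs, hsc, hc, h⟩
  have h2 := pow_oddPart_mul hs hsc hc
  rw [← h, one_pow] at h2
  rw [← h2, orderOf_one] at hs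
  exact absurd hs (by norm_num)

theorem near_of_invol {s : G} (hs : orderOf s = 2) : Near s :=
  ⟨s, 1, hs, Commute.one_left s, by rw [orderOf_one]; exact odd_one, (mul_one s).symm⟩

end CfsgLib.CoreEmbedded
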