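import Cfsg.Agent.Lib.CoreEmbedded.Main
import Cfsg.Agent.Lib.Invol.StronglyEmbedded

/-!
# Counting the elements with involution `2`-part in the cosets of `H`
-/

set_option autoImplicit false
set_option linter.unusedSectionVars false
set_option linter.unusedVariables false

open scoped ComplexConjugate

namespace CfsgLib.CoreEmbedded

universe u

variable {G : Type u} [Group G] [Fintype G] {H W : Subgroup G}

namespace Hyp

variable (h : Hyp H W)
include h

theorem fix_mem_H {s c : G} (hs : orderOf s = 2) (hsH : s ∈ H) (hc : Commute c s)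
    (hco : Odd (orderOf c)) : c ∈ W ∧ s * c ∈ H :=
  have hcW := h.cent s hsH hs c hc hco
  ⟨hcW, H.mul_mem hsH (h.le hcW)⟩

theorem invol_mem_of_mul_mem {s c : G} (hs : orderOf s = 2) (hc : Commute c s)
    (hco : Odd (orderOf c)) (hy : s * c ∈ H) : s ∈ H :=
  pow_oddPart_mul hs hc hco ▸ H.pow_mem hy _

theorem commute_of_inverts {a b z w : G} (ha : orderOf a = 2) (hb : orderOf b = 2)
    (hz : z ∈ H) {k : ℕ} (hk : orderOf z = 2 ^ (k + 1)) (hw : w ∈ W) (hab : a * b = w * z⁻¹) :
    a ∈ H := by
  -- a power of `w z⁻¹` is an involution of `H` inverted, hence centralized, by `a`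
  set x := a * b with hx
  have hxH : x ∈ H := hab ▸ H.mul_mem (h.le hw) (H.inv_mem hz)
  have heven : Even (orderOf x) := by
    by_contra hodd
    rw [Nat.not_even_iff_odd] at hodd
    -- then `z` would lie in `W`
    have hmap : ∀ n : ℕ, x ^ n * z ^ n ∈ W := by
      intro n
      induction n with
      | zero => simp
      | succ n ih =>
        have : x ^ (n + 1) * z ^ (n + 1) =
            (x ^ n * w * (x ^ n)⁻¹) * (x ^ n * (z⁻¹ * z ^ n * z)) := by
          rw [pow_succ x, pow_succ z, hab]; group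
        rw [this]
        refine W.mul_mem (h.conj_mem (H.pow_mem hxH n) hw) ?_
        rw [show z⁻¹ * z ^ n * z = z ^ n by group]
        exact ih
    have h1 := hmap (orderOf x)
    rw [pow_orderOf_eq_one, one_mul] at h1
    have h2 : Odd (orderOf (z ^ orderOf x)) := h.odd_orderOf h1
    have hco : (orderOf z).Coprime (orderOf x) := by
      rw [hk]; exact (Nat.coprime_two_left.2 hodd).pow_left _
    rw [hco.orderOf_pow, hk, Nat.odd_pow_iff (by omega)] at h2
    exact absurd h2 (by decide)
  obtain ⟨j, hj⟩ := heven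
  have hpos := orderOf_pos x
  have hs : orderOf (x ^ j) = 2 := by
    rw [orderOf_pow_of_dvd (by omega) ⟨2, by omega⟩, hj,
      show j + j = 2 * j by omega, Nat.mul_div_cancel _ (by omega)]
  have hinv := Invol.conj_prod (Invol.mul_self_eq_one ha) (Invol.mul_self_eq_one hb)
  have hst : Commute a (x ^ j) := by
    have e := Invol.conj_zpow_of_inverts hinv (j : ℤ)
    rw [zpow_natCast, zpow_neg, zpow_natCast, Invol.inv_eq_self hs, Invol.inv_eq_self ha] at e
    calc a * x ^ j = a * x ^ j * a * a := by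
          rw [mul_assoc _ a a, Invol.mul_self_eq_one ha, mul_one]
      _ = x ^ j * a := by rw [e]
  exact h.cent_le (H.pow_mem hxH j) hs (Subgroup.mem_centralizer_singleton_iff.2 hst.eq)

theorem mem_of_pair {a b z : G} (ha : Near a) (hb : Near b) (hz : z ∈ H) {k : ℕ}
    (hk : orderOf z = 2 ^ (k + 1)) (hab : a * b * z ∈ W) : a ∈ H := by
  classical
  obtain ⟨M, hM⟩ := CfsgLib.BlockReg.exists_isPModular Nat.prime_two
  obtain ⟨t, htH, ht⟩ : ∃ t ∈ H, orderOf t = 2 :=
    ⟨_, (h.exists_invol_pow hz hk).1, (h.exists_invol_pow hz hk).2⟩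
  set κ := (oddCent t).card with hκ
  set Z : Finset G := Finset.univ.image fun w : W => z * (w : G) with hZ
  have hmemZ : ∀ x : G, x⁻¹ ∈ Z ↔ x * z ∈ W := by
    intro x
    simp only [hZ, Finset.mem_image, Finset.mem_univ, true_and]
    constructor
    · rintro ⟨w, hw⟩
      have : x * z = (w : G)⁻¹ := eq_inv_of_mul_eq_one_left (by rw [mul_assoc, hw, mul_inv_cancel])
      exact this ▸ W.inv_mem w.2
    · intro hx
      exact ⟨⟨(x * z)⁻¹, W.inv_mem hx⟩, by group⟩
  set PY := ((nears G) ×ˢ (nears G)).filter fun p => (p.1 * p.2)⁻¹ ∈ Z with hPY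
  set PI := ((invs G) ×ˢ (invs G)).filter fun p => (p.1 * p.2)⁻¹ ∈ Z with hPI
  have hsumZ : ∀ χ : Cfsg.IrrCharacter G, χ ∉ Invol.BlockCol.pBlock M G →
      ∑ x ∈ Z, (χ : G → ℂ) x = 0 := by
    intro χ hχ
    rw [hZ, Finset.sum_image (fun u _ v _ e => Subtype.ext (mul_left_cancel e))]
    exact h.sum_coset hM hz hk χ hχ
  have hcount : PY.card = κ ^ 2 * PI.card := by
    have e1 := card_pairs (inv_nears (G := G)) inv_nears Z
    have e2 := card_pairs (inv_invs (G := G)) inv_invs Z
    rw [← hPY] at e1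
    rw [← hPI] at e2
    have hG : (Fintype.card G : ℂ) ≠ 0 := Nat.cast_ne_zero.2 Fintype.card_ne_zero
    have : (Fintype.card G : ℂ) * (PY.card : ℂ) =
        (Fintype.card G : ℂ) * ((κ ^ 2 * PI.card : ℕ) : ℂ) := by
      rw [e1, Nat.cast_mul, mul_left_comm, e2, Finset.mul_sum]
      refine Finset.sum_congr rfl fun χ _ => ?_
      by_cases hχ : χ ∈ Invol.BlockCol.pBlock M G
      · rw [h.sum_nears_char hM htH ht hχ, ← hκ]
        push_cast
        ring
      · rw [hsumZ χ hχ]; simp
    exact_mod_cast mul_left_cancel₀ hG this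
  -- the pairs inside `H` already account for all of them
  set S := PI.sigma fun p => oddCent p.1 ×ˢ oddCent p.2 with hS
  have hScard : S.card = κ ^ 2 * PI.card := by
    rw [hS, Finset.card_sigma, Finset.sum_congr rfl (g := fun _ => κ ^ 2) fun p hp => ?_,
      Finset.sum_const, smul_eq_mul, mul_comm]
    simp only [hPI, Finset.mem_filter, Finset.mem_product, mem_invs] at hp
    rw [Finset.card_product, h.card_oddCent hp.1.1 ht, h.card_oddCent hp.1.2 ht, sq]
  have hPIH : ∀ p ∈ PI, p.1 ∈ H ∧ p.2 ∈ H := by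
    intro p hp
    simp only [hPI, Finset.mem_filter, Finset.mem_product, mem_invs, hmemZ] at hp
    have h1 : p.1 ∈ H := h.commute_of_inverts hp.1.1 hp.1.2 hz hk hp.2
      (by rw [mul_inv_cancel_right])
    refine ⟨h1, ?_⟩
    have := H.mul_mem (H.inv_mem h1) (H.mul_mem (h.le hp.2) (H.inv_mem hz))
    simpa [mul_assoc] using this
  set φ : ((_ : G × G) × (G × G)) → G × G := fun q => (q.1.1 * q.2.1, q.1.2 * q.2.2) with hφ
  have hinto : ∀ q ∈ S, φ q ∈ PY ∧ (φ q).1 ∈ H := by
    rintro ⟨⟨s, s'⟩, ⟨c, c'⟩⟩ hq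
    rw [hS, Finset.mem_sigma] at hq
    obtain ⟨hp, hc⟩ := hq
    obtain ⟨hsH, hs'H⟩ := hPIH _ hp
    simp only [hPI, Finset.mem_filter, Finset.mem_product, mem_invs, hmemZ] at hp
    simp only [Finset.mem_product, mem_oddCent] at hc
    obtain ⟨hcW, hyH⟩ := h.fix_mem_H hp.1.1 hsH hc.1.1 hc.1.2
    obtain ⟨hc'W, -⟩ := h.fix_mem_H hp.1.2 hs'H hc.2.1 hc.2.2
    refine ⟨?_, hyH⟩
    simp only [hPY, hφ, Finset.mem_filter, Finset.mem_product, mem_nears, hmemZ]
    refine ⟨⟨⟨s, c, hp.1.1, hc.1.1, hc.1.2, rfl⟩, ⟨s', c', hp.1.2, hc.2.1, hc.2.2, rfl⟩⟩, ?_⟩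
    have e : s * c * (s' * c') * z = (s * c * s⁻¹) * (s * s' * z) * (z⁻¹ * c' * z) := by group
    rw [e]
    exact W.mul_mem (W.mul_mem (h.conj_mem hsH hcW) hp.2) (h.conj_mem' hz hc'W)
  have hinj : Set.InjOn φ (S : Set ((_ : G × G) × (G × G))) := by
    rintro ⟨⟨s, s'⟩, ⟨c, c'⟩⟩ hq ⟨⟨u, u'⟩, ⟨d, d'⟩⟩ hq' e
    simp only [hS, Finset.coe_sigma, Set.mem_sigma_iff, Finset.mem_coe, Finset.mem_sigma, hPI,
      Finset.mem_filter, Finset.mem_product, mem_invs, mem_oddCent] at hq hq'
    simp only [hφ, Prod.mk.injEq] at e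
    have h1 := pow_oddPart_mul hq.1.1.1 hq.2.1.1 hq.2.1.2
    have h2 := pow_oddPart_mul hq'.1.1.1 hq'.2.1.1 hq'.2.1.2
    have h1' := pow_oddPart_mul hq.1.1.2 hq.2.2.1 hq.2.2.2
    have h2' := pow_oddPart_mul hq'.1.1.2 hq'.2.2.1 hq'.2.2.2
    rw [e.1, h2] at h1
    rw [e.2, h2'] at h1'
    subst h1 h1'
    rw [mul_left_cancel e.1, mul_left_cancel e.2]
  have himg : S.image φ = PY := Finset.eq_of_subset_of_card_le
    (Finset.image_subset_iff.2 fun q hq => (hinto q hq).1)
    (by rw [Finset.card_image_of_injOn hinj, hScard, hcount])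
  have hmem : (a, b) ∈ PY := by
    simp only [hPY, Finset.mem_filter, Finset.mem_product, mem_nears, hmemZ]
    exact ⟨⟨ha, hb⟩, hab⟩
  rw [← himg, Finset.mem_image] at hmem
  obtain ⟨q, hq, e⟩ := hmem
  have := (hinto q hq).2
  rwa [e] at this

/-- The elements with involution `2`-part are invariant under right multiplication by `W`. -/
theorem near_mul_mem {y w : G} (hy : Near y) (hw : w ∈ W) : Near (y * w) := by
  classical
  -- a central involution of a Sylow subgroup inside `H`
  obtain ⟨t, htH, ht⟩ := Invol.exists_orderOf_two_of_even_card h.se.2.1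
  have : Fact (Nat.Prime 2) := ⟨Nat.prime_two⟩
  obtain ⟨S, hS⟩ := IsPGroup.exists_le_sylow (p := 2) (P := Subgroup.zpowers t)
    (IsPGroup.of_card (n := 1) (by rw [Nat.card_zpowers, ht, pow_one]))
  have htS : t ∈ (S : Subgroup G) := hS (Subgroup.mem_zpowers t)
  have : Nontrivial (S : Subgroup G) := ⟨⟨⟨t, htS⟩, 1, fun e => by
    have : t = 1 := congrArg Subtype.val e
    rw [this, orderOf_one] at ht; omega⟩⟩
  have := S.isPGroup'.center_nontrivial
  obtain ⟨v, hv⟩ := exists_prime_orderOf_dvd_card' (G := Subgroup.center (S : Subgroup G)) 2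
    ((S.isPGroup'.to_subgroup (Subgroup.center (S : Subgroup G))).card_eq_or_dvd.resolve_left
      Finite.one_lt_card.ne')
  set t₀ : G := ((v : (S : Subgroup G)) : G) with ht₀
  have ht₀o : orderOf t₀ = 2 := by rw [ht₀, Subgroup.orderOf_coe, Subgroup.orderOf_coe, hv]
  have hcomm : ∀ x ∈ (S : Subgroup G), Commute x t₀ := fun x hx =>
    congrArg Subtype.val (Subgroup.mem_center_iff.1 v.2 ⟨x, hx⟩)
  have ht₀H : t₀ ∈ H :=
    h.cent_le htH ht (Subgroup.mem_centralizer_singleton_iff.2 (hcomm t htS).symm.eq)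
  have hSC : (S : Subgroup G) ≤ Subgroup.centralizer ({t₀} : Set G) :=
    fun x hx => Subgroup.mem_centralizer_singleton_iff.2 (hcomm x hx).eq
  have hSH : (S : Subgroup G) ≤ H := hSC.trans (h.cent_le ht₀H ht₀o)
  have hk : orderOf t₀ = 2 ^ (0 + 1) := by rw [ht₀o, zero_add, pow_one]
  -- the number of such elements
  set κ := (oddCent t₀).card with hκ
  have hκD : κ = Nat.card (D W t₀) := by
    rw [hκ, ← Nat.card_eq_finsetCard]
    exact Nat.card_congr
      { toFun := fun c => ⟨⟨c.1, Subgroup.mem_centralizer_singleton_iff.2 (mem_oddCent.1 c.2).1⟩,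
          Subgroup.mem_subgroupOf.2 (h.cent t₀ ht₀H ht₀o c.1 (mem_oddCent.1 c.2).1
            (mem_oddCent.1 c.2).2)⟩
        invFun := fun n => ⟨((n : Subgroup.centralizer ({t₀} : Set G)) : G),
          mem_oddCent.2 ⟨Subgroup.mem_centralizer_singleton_iff.1
            (n : Subgroup.centralizer ({t₀} : Set G)).2,
            h.odd_orderOf (Subgroup.mem_subgroupOf.1 n.2)⟩⟩
        left_inv := fun c => rfl
        right_inv := fun n => rfl }
  have hC : Nat.card (Subgroup.centralizer ({t₀} : Set G)) = Nat.card (S : Subgroup G) * κ := by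
    obtain ⟨a, ha⟩ := h.D_index ht₀H hk
    have hCc : Nat.card (Subgroup.centralizer ({t₀} : Set G)) = 2 ^ a * κ := by
      rw [hκD, ← ha, Subgroup.index_mul_card]
    obtain ⟨n, hn⟩ := IsPGroup.iff_card.1 S.isPGroup'
    have hκodd : Nat.Coprime κ 2 := by
      rw [hκD]; exact (Nat.prime_two.coprime_iff_not_dvd.2 (h.D_not_dvd t₀)).symm
    have h1 : 2 ^ n ∣ 2 ^ a := by
      refine ((hκodd.pow_right n).symm).dvd_of_dvd_mul_right ?_
      rw [← hCc, ← hn]
      exact Subgroup.card_dvd_of_le hSC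
    have h2 : 2 ^ a ∣ 2 ^ n := by
      have hfac : (Nat.card (S : Subgroup G)) = 2 ^ (Nat.card G).factorization 2 :=
        S.card_eq_multiplicity
      rw [hn] at hfac
      rw [hfac]
      refine (Nat.Prime.pow_dvd_iff_le_factorization Nat.prime_two Nat.card_pos.ne').1 ?_ |>
        pow_dvd_pow 2
      exact (Dvd.intro _ hCc.symm).trans (Subgroup.card_subgroup_dvd_card _)
    rw [hCc, hn, Nat.dvd_antisymm h2 h1]
  have hI : (invs G).card * Nat.card (Subgroup.centralizer ({t₀} : Set G)) = Nat.card G := by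
    have e : (invs G).card = (Subgroup.centralizer ({t₀} : Set G)).index := by
      rw [← CfsgLib.Invol.card_isConj_eq_index, ← Nat.card_eq_finsetCard]
      exact Nat.card_congr (Equiv.subtypeEquivRight fun x => ⟨fun hx =>
        h.isConj_of_invol (mem_invs.1 hx) ht₀o, fun hx =>
        mem_invs.2 (Invol.orderOf_eq_two_of_isConj ht₀o hx)⟩)
    rw [e, Subgroup.index_mul_card]
  have hYcard : (nears G).card * Nat.card (S : Subgroup G) = Nat.card G := by
    rw [Finset.card_eq_sum_ones, sum_nears, Finset.sum_congr rfl (g := fun _ => κ) fun s hs => by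
      rw [← Finset.card_eq_sum_ones, h.card_oddCent (mem_invs.1 hs) ht₀o], Finset.sum_const,
      smul_eq_mul, mul_assoc, mul_comm κ, ← hC, hI]
  -- inside `H`
  set Q := (S : Subgroup G).subgroupOf H with hQ
  have hHS : Q.index * Nat.card (S : Subgroup G) = Nat.card H := by
    rw [← Nat.card_congr (Subgroup.subgroupOfEquivOfLe hSH).toEquiv, Subgroup.index_mul_card]
  set cy : G ⧸ H → Finset G := fun x => (nears G).filter fun y => (y : G ⧸ H) = x with hcy
  have hbase : (cy (QuotientGroup.mk 1)).card = Q.index := by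
    have hset : cy (QuotientGroup.mk 1) = (nears G).filter fun y => y ∈ H := by
      refine Finset.filter_congr fun y _ => ?_
      rw [QuotientGroup.eq, mul_one, H.inv_mem_iff]
    have hbij : ((nears G).filter fun y => y ∈ H).card =
        ((invs G).filter fun s => s ∈ H).card * κ := by
      rw [Finset.card_eq_sum_ones, Finset.sum_filter, sum_nears, Finset.sum_congr rfl
        (g := fun s => if s ∈ H then κ else 0) fun s hs => ?_, ← Finset.sum_filter, Finset.sum_const,
        smul_eq_mul]
      rw [mem_invs] at hs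
      rw [← Finset.sum_filter]
      split_ifs with hsH
      · rw [Finset.filter_eq_self.2, ← Finset.card_eq_sum_ones, h.card_oddCent hs ht₀o]
        exact fun c hc => (h.fix_mem_H hs hsH (mem_oddCent.1 hc).1 (mem_oddCent.1 hc).2).2
      · rw [Finset.filter_eq_empty_iff.2, Finset.sum_empty]
        exact fun c hc hy => hsH
          (h.invol_mem_of_mul_mem hs (mem_oddCent.1 hc).1 (mem_oddCent.1 hc).2 hy)
    have hn : ((invs G).filter fun s => s ∈ H).card * H.index = (invs G).card := by
      have e0 : ((invs G).filter fun s => s ∈ H).card =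
          Nat.card (SEmb.Swap (QuotientGroup.mk 1 : G ⧸ H) (QuotientGroup.mk 1)) := by
        rw [← Nat.card_eq_finsetCard]
        refine Nat.card_congr (Equiv.subtypeEquivRight fun s => ?_)
        rw [Finset.mem_filter, mem_invs, SEmb.smul_one_eq_iff]
      have e1 : (invs G).card = Nat.card (Σ x : G ⧸ H, SEmb.Swap (QuotientGroup.mk 1) x) := by
        rw [← Nat.card_eq_finsetCard]
        exact Nat.card_congr
          { toFun := fun s => ⟨s.1 • QuotientGroup.mk 1, s.1, mem_invs.1 s.2, rfl⟩
            invFun := fun p => ⟨p.2.1, mem_invs.2 p.2.2.1⟩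
            left_inv := fun s => rfl
            right_inv := fun p => by obtain ⟨x, i, h2, rfl⟩ := p; rfl }
      have : Fintype (G ⧸ H) := Fintype.ofFinite _
      rw [e1, Nat.card_sigma, Finset.sum_congr rfl fun x _ => SEmb.card_swap h.se _ x,
        Finset.sum_const, Finset.card_univ, smul_eq_mul, e0, mul_comm, H.index_eq_card,
        Nat.card_eq_fintype_card]
    rw [hset, hbij]
    have hne : H.index * Nat.card (S : Subgroup G) ≠ 0 :=
      mul_ne_zero Subgroup.index_ne_zero_of_finite Nat.card_pos.ne'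
    refine mul_right_cancel₀ hne ?_
    calc ((invs G).filter fun s => s ∈ H).card * κ * (H.index * Nat.card (S : Subgroup G))
        = ((invs G).filter fun s => s ∈ H).card * H.index *
            (Nat.card (S : Subgroup G) * κ) := by ring
      _ = Nat.card G := by rw [hn, ← hC, hI]
      _ = Q.index * Nat.card (S : Subgroup G) * H.index := by
          rw [hHS, mul_comm, Subgroup.index_mul_card]
      _ = Q.index * (H.index * Nat.card (S : Subgroup G)) := by ring
  -- products inside `H` of two such elements outside it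
  have hkey : ∀ {a b q : G}, Near a → Near b → a ∉ H → q ∈ (S : Subgroup G) →
      a⁻¹ * b * q ∈ W → q = 1 := by
    intro a b q ha hb haH hq hab
    by_contra hq1
    obtain ⟨n, hn⟩ := (IsPGroup.iff_orderOf.1 S.isPGroup') ⟨q, hq⟩
    rw [Subgroup.orderOf_mk] at hn
    rcases n with - | n
    · exact hq1 (orderOf_eq_one_iff.1 (by rw [hn, pow_zero]))
    exact haH (H.inv_mem_iff.1 (h.mem_of_pair (near_inv ha) hb (hSH hq) hn hab))
  have hmapH : ∀ {g : G} {y : G}, (y : G ⧸ H) = g → g⁻¹ * y ∈ H := fun e =>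
    QuotientGroup.eq.1 e.symm
  let ψ : ∀ g : G, {y // y ∈ cy (QuotientGroup.mk g)} → H ⧸ Q := fun g y =>
    QuotientGroup.mk ⟨g⁻¹ * y.1, hmapH (Finset.mem_filter.1 y.2).2⟩
  have hψ : ∀ g : G, g ∉ H → Function.Injective (ψ g) := by
    rintro g hg ⟨a, ha⟩ ⟨b, hb⟩ e
    rw [QuotientGroup.eq, Subgroup.mem_subgroupOf] at e
    simp only [hcy, Finset.mem_filter, mem_nears] at ha hb
    have haH : a ∉ H := fun haH => hg (by
      simpa using H.mul_mem haH (H.inv_mem (hmapH ha.2)))
    have e' : a⁻¹ * b ∈ (S : Subgroup G) := by simpa [mul_assoc] using e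
    have := hkey ha.1 hb.1 haH ((S : Subgroup G).inv_mem e') (by rw [mul_inv_cancel]; exact W.one_mem)
    exact Subtype.ext (inv_mul_eq_one.1 (inv_eq_one.1 this))
  have hle : ∀ x : G ⧸ H, (cy x).card ≤ Q.index := by
    intro x
    induction x using QuotientGroup.induction_on with
    | _ g =>
    by_cases hg : g ∈ H
    · rw [show (QuotientGroup.mk g : G ⧸ H) = QuotientGroup.mk 1 from
        QuotientGroup.eq.2 (by simpa using hg), hbase]
    · rw [← Nat.card_eq_finsetCard, Subgroup.index_eq_card]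
      exact Nat.card_le_card_of_injective _ (hψ g hg)
  have hall : ∀ x : G ⧸ H, (cy x).card = Q.index := by
    have : Fintype (G ⧸ H) := Fintype.ofFinite _
    have hsum : ∑ x : G ⧸ H, (cy x).card = ∑ _x : G ⧸ H, Q.index := by
      rw [← Finset.card_eq_sum_card_fiberwise (fun _ _ => Finset.mem_univ _), Finset.sum_const,
        Finset.card_univ, smul_eq_mul, ← Nat.card_eq_fintype_card, ← Subgroup.index_eq_card]
      refine mul_right_cancel₀ (Nat.card_pos (α := (S : Subgroup G))).ne' ?_
      rw [hYcard, mul_assoc, hHS, Subgroup.index_mul_card]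
    exact fun x => (Finset.sum_eq_sum_iff_of_le fun x _ => hle x).1 hsum x (Finset.mem_univ x)
  -- conclusion
  by_cases hyH : y ∈ H
  · obtain ⟨s, c, hs, hsc, hc, rfl⟩ := hy
    have hsH := h.invol_mem_of_mul_mem hs hsc hc hyH
    have hcW := (h.fix_mem_H hs hsH hsc hc).1
    set u := s * c * w with hu
    have hu' : u = s * (c * w) := mul_assoc _ _ _
    have hs1 : s ∉ W := fun hsW => by
      have := h.odd_orderOf hsW
      rw [hs] at this
      exact absurd this (by decide)
    -- `u` agrees with `s` modulo `W`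
    have hmap : ∀ n : ℕ, s⁻¹ ^ n * u ^ n ∈ W := by
      intro n
      induction n with
      | zero => simp
      | succ n ih =>
        have : s⁻¹ ^ (n + 1) * u ^ (n + 1) = (s⁻¹ * (s⁻¹ ^ n * u ^ n) * s) * (s⁻¹ * u) := by
          rw [pow_succ u, pow_succ']; group
        rw [this]
        refine W.mul_mem (h.conj_mem' hsH ih) ?_
        rw [hu', inv_mul_cancel_left]
        exact W.mul_mem hcW hw
    set N := oddPart G with hN
    have hs' : orderOf (u ^ N) = 2 := by
      have h2 : u ^ 2 ∈ W := by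
        have := hmap 2
        rwa [Invol.inv_eq_self hs, pow_two, Invol.mul_self_eq_one hs, one_mul] at this
      refine Invol.orderOf_eq_two (fun e => hs1 ?_) ?_
      · have := hmap N
        rwa [e, mul_one, Invol.inv_eq_self hs, pow_oddPart_invol hs] at this
      · rw [← pow_add, ← two_mul, pow_mul]
        exact pow_oddPart_of_odd (h.odd_orderOf h2)
    refine ⟨u ^ N, (u ^ N)⁻¹ * u, hs', ?_, ?_, (mul_inv_cancel_left _ _).symm⟩
    · exact ((Commute.refl (u ^ N)).inv_left).mul_left (Commute.self_pow u N)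
    · refine Odd.of_dvd_nat (oddPart_odd (G := G)) (orderOf_dvd_iff_pow_eq_one.2 ?_)
      rw [((Commute.self_pow u N).inv_right).symm.mul_pow, inv_pow, ← hN, pow_oddPart_invol hs',
        inv_mul_cancel]
  · have hbij : Function.Bijective (ψ y) := (Nat.bijective_iff_injective_and_card _).2
      ⟨hψ y hyH, by rw [Nat.card_eq_finsetCard, hall, Subgroup.index_eq_card]⟩
    obtain ⟨⟨b, hb⟩, e⟩ := hbij.2 (QuotientGroup.mk ⟨w, h.le hw⟩)
    rw [QuotientGroup.eq, Subgroup.mem_subgroupOf] at e
    simp only [hcy, Finset.mem_filter, mem_nears] at hb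
    have e' : b⁻¹ * y * w ∈ (S : Subgroup G) := by simpa [mul_assoc] using e
    have hq := hkey hy hb.1 hyH e' (by simpa [mul_assoc] using hw)
    have : b = y * w := inv_mul_eq_one.1 (by rw [← mul_assoc]; exact hq)
    exact this ▸ hb.1

/-- `W` lies in the core. -/
theorem le_pPrimeCore : W ≤ Cfsg.pPrimeCore 2 G := by
  classical
  let T : Submonoid G :=
    { carrier := {x | ∀ y, Near y → Near (y * x)}
      one_mem' := fun y hy => by rwa [mul_one]
      mul_mem' := fun {a b} ha hb y hy => by rw [← mul_assoc]; exact hb _ (ha y hy) }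
  have hsub : ∀ x ∈ Subgroup.normalClosure (W : Set G), x ∈ T := by
    intro x hx
    refine Subgroup.closure_induction_left (p := fun x _ => x ∈ T) T.one_mem ?_ ?_ hx
    · intro c hc z _ hz
      obtain ⟨a, ha, hconj⟩ := Group.mem_conjugatesOfSet_iff.1 hc
      obtain ⟨g, rfl⟩ := isConj_iff.1 hconj
      refine T.mul_mem (fun y hy => ?_) hz
      have := near_conj (h.near_mul_mem (near_conj hy g⁻¹) ha) g
      rw [inv_inv] at this
      simpa [mul_assoc] using this
    · intro c hc z _ hz
      obtain ⟨a, ha, hconj⟩ := Group.mem_conjugatesOfSet_iff.1 hc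
      obtain ⟨g, rfl⟩ := isConj_iff.1 hconj
      refine T.mul_mem (fun y hy => ?_) hz
      have := near_conj (h.near_mul_mem (near_conj hy g⁻¹) (W.inv_mem ha)) g
      rw [inv_inv] at this
      simpa [mul_assoc] using this
  have hodd : (Nat.card (Subgroup.normalClosure (W : Set G))).Coprime 2 := by
    rw [Nat.coprime_comm, Nat.prime_two.coprime_iff_not_dvd]
    intro h2
    obtain ⟨⟨s, hsN⟩, hs⟩ := exists_prime_orderOf_dvd_card' 2 h2
    rw [Subgroup.orderOf_mk] at hs
    have := hsub s hsN s (near_of_invol hs)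
    rw [Invol.mul_self_eq_one hs] at this
    exact not_near_one this
  exact Subgroup.subset_normalClosure.trans
    (CfsgLib.Solvable.le_pPrimeCore Subgroup.normalClosure_normal hodd)

end Hyp

end CfsgLib.CoreEmbedded
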