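import Cfsg.Agent.Lib.BlockRank.HomocyclicShape
import Mathlib.GroupTheory.Exponent
import Mathlib.Data.ZMod.Basic

/-!
# A `2`-group with four elements of order at most two and a free automorphism is homocyclic
-/

set_option autoImplicit false
set_option linter.unusedSectionVars false

namespace CfsgLib.CoreEmbedded

/-- With at most four square roots of one and a fixed-point-free endomorphism the group is
homocyclic of rank two. -/
theorem nonempty_homocyclic {Q : Type*} [CommGroup Q] [Finite Q] (hQ : IsPGroup 2 Q) (τ : Q ≃* Q)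
    (hfree : ∀ q, τ q = q → q = 1) (h4 : Nat.card (powMonoidHom 2 : Q →* Q).ker ≤ 4)
    (hbig : 4 < Nat.card Q) :
    ∃ k, 1 ≤ k ∧ Nonempty (Q ≃* Multiplicative (ZMod (2 ^ (k + 1)) × ZMod (2 ^ (k + 1)))) := by
  classical
  have hfin : Monoid.ExponentExists Q := Monoid.ExponentExists.of_finite
  obtain ⟨x, hx⟩ := Monoid.exists_orderOf_eq_exponent hfin
  obtain ⟨n, hn⟩ := (IsPGroup.iff_orderOf.1 hQ) x
  have hexp : ∀ q : Q, q ^ 2 ^ n = 1 := fun q => by
    rw [← hn, hx]; exact Monoid.pow_exponent_eq_one q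
  have hle : Nat.card Q ≤ 4 ^ n := by
    have h := BlockRank.Homocyclic.card_ker_le h4 n
    rwa [show (powMonoidHom (2 ^ n) : Q →* Q).ker = ⊤ from top_le_iff.1 fun q _ => hexp q,
      Subgroup.card_top] at h
  have hn2 : 2 ≤ n := by
    by_contra hlt
    have : 4 ^ n ≤ 4 ^ 1 := Nat.pow_le_pow_right (by norm_num) (by omega)
    omega
  obtain ⟨k, rfl⟩ : ∃ k, n = k + 1 := ⟨n - 1, by omega⟩
  refine ⟨k, by omega, ?_⟩
  set y := τ x with hy
  set f : Multiplicative (ZMod (2 ^ (k + 1)) × ZMod (2 ^ (k + 1))) →* Q :=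
    MonoidHom.mk' (fun a => x ^ (Multiplicative.toAdd a).1.val * y ^ (Multiplicative.toAdd a).2.val)
      (fun a b => by
        simp only [toAdd_mul, Prod.fst_add, Prod.snd_add, ZMod.val_add]
        rw [← pow_eq_pow_mod _ (hexp x), ← pow_eq_pow_mod _ (hexp y), pow_add x, pow_add y,
          mul_mul_mul_comm]) with hf
  have hxk : x ^ 2 ^ k ≠ 1 := fun h => by
    have := orderOf_dvd_of_pow_eq_one h
    rw [hn] at this
    have := (Nat.pow_dvd_pow_iff_le_right (x := 2) (by norm_num)).1 this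
    omega
  -- the only involution of a cyclic group
  have huniq : ∀ (z : Q), orderOf z = 2 ^ (k + 1) → ∀ i : ℕ, (z ^ i) * (z ^ i) = 1 → z ^ i = 1 ∨
      z ^ i = z ^ 2 ^ k := by
    intro z hz i hi
    rw [← pow_two, ← pow_mul] at hi
    have hd := orderOf_dvd_of_pow_eq_one hi
    rw [hz, pow_succ] at hd
    obtain ⟨j, rfl⟩ : 2 ^ k ∣ i := Nat.dvd_of_mul_dvd_mul_right (by norm_num) hd
    rw [pow_mul]
    have h1 : (z ^ 2 ^ k) ^ 2 = 1 := by rw [← pow_mul, ← pow_succ, ← hz, pow_orderOf_eq_one]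
    rcases Nat.even_or_odd j with ⟨l, rfl⟩ | ⟨l, rfl⟩
    · left; rw [← two_mul, pow_mul, h1, one_pow]
    · right; rw [pow_succ, pow_mul, h1, one_pow, one_mul]
  have hyord : orderOf y = 2 ^ (k + 1) := by rw [hy, MulEquiv.orderOf_eq, hn]
  have hinj : Function.Injective f := by
    refine (injective_iff_map_eq_one f).2 fun a ha => ?_
    set i := (Multiplicative.toAdd a).1.val with hi
    set j := (Multiplicative.toAdd a).2.val with hj
    have hij : x ^ i * y ^ j = 1 := ha
    suffices hxi : x ^ i = 1 by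
      rw [hxi, one_mul] at hij
      have hi0 := Nat.eq_zero_of_dvd_of_lt (orderOf_dvd_of_pow_eq_one hxi)
        (hn ▸ ZMod.val_lt _)
      have hj0 := Nat.eq_zero_of_dvd_of_lt (orderOf_dvd_of_pow_eq_one hij)
        (hyord ▸ ZMod.val_lt _)
      have h1 := (ZMod.val_eq_zero _).1 hi0
      have h2 := (ZMod.val_eq_zero _).1 hj0
      exact Multiplicative.toAdd.injective (Prod.ext h1 h2)
    by_contra hxi
    obtain ⟨r, hr⟩ := (IsPGroup.iff_orderOf.1 hQ) (x ^ i)
    rcases r with - | r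
    · exact hxi (orderOf_eq_one_iff.1 (by rw [hr, pow_zero]))
    set s := (x ^ i) ^ 2 ^ r with hs
    have hso : orderOf s = 2 := by
      rw [hs, orderOf_pow_of_dvd (pow_ne_zero _ two_ne_zero) ⟨2, by rw [hr, pow_succ]⟩, hr, pow_succ,
        Nat.mul_div_cancel_left _ (pow_pos two_pos _)]
    have hs1 : s ≠ 1 := fun h => by rw [h, orderOf_one] at hso; omega
    have hss : s * s = 1 := by rw [← pow_two, ← hso, pow_orderOf_eq_one]
    have hsx : s = x ^ 2 ^ k := by
      rw [hs, ← pow_mul] at hss hs1 ⊢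
      exact (huniq x hn _ hss).resolve_left hs1
    have e : s⁻¹ = y ^ (j * 2 ^ r) := by
      rw [hs, ← inv_pow, inv_eq_of_mul_eq_one_right hij, pow_mul]
    have hsy : s⁻¹ = y ^ 2 ^ k := by
      have h2 : y ^ (j * 2 ^ r) * y ^ (j * 2 ^ r) = 1 := by rw [← e, ← mul_inv_rev, hss, inv_one]
      rw [e]
      refine (huniq y hyord _ h2).resolve_left fun h => hs1 ?_
      rw [← inv_eq_one, e, h]
    refine hxk (hfree _ ?_)
    rw [map_pow, ← hy, ← hsy, inv_eq_of_mul_eq_one_right hss, hsx]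
  have hcard : Nat.card (Multiplicative (ZMod (2 ^ (k + 1)) × ZMod (2 ^ (k + 1)))) = 4 ^ (k + 1) := by
    rw [Nat.card_congr Multiplicative.toAdd, Nat.card_prod, Nat.card_zmod, ← mul_pow]
    norm_num
  have hbij : Function.Bijective f := (Nat.bijective_iff_injective_and_card _).2
    ⟨hinj, le_antisymm (Nat.card_le_card_of_injective f hinj) (hcard.symm ▸ hle)⟩
  exact ⟨(MulEquiv.ofBijective f hbij).symm⟩

end CfsgLib.CoreEmbedded
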