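import Cfsg.Agent.Lib.FreeInertial.Main
import Cfsg.Agent.Lib.Blk83.PrincipalPairs
import Cfsg.Agent.Lib.Blocks.Pairs.Principal
import Cfsg.Agent.Lib.Blocks.Pairs.InducedIn
import Cfsg.Agent.Lib.Blocks.Pairs.Defect
import Cfsg.Agent.Lib.BlockTwist.Props
import Cfsg.Agent.Lib.BlockRank.Watanabe.Assemble
import Cfsg.Agent.S4652
import Cfsg.Agent.S0936

/-!
# The principal block with an abelian Sylow subgroup: the inertial quotient is `N(P)/C(P)`
-/

set_option autoImplicit false
set_option maxHeartbeats 1000000
set_option synthInstance.maxHeartbeats 400000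

open Cfsg CfsgLib.Blocks CfsgLib.Blocks.Pairs

namespace CfsgLib.CoreEmbedded

universe u

variable {G : Type u} [Group G] [Finite G] {p : ℕ} [Fact p.Prime] {M : Ideal AlgInt} [M.IsMaximal]
  [CharP (ResField M) p]

theorem isInducedBlock_principal (hM : IsPModular p M) {R : Subgroup G} (hR : IsPGroup p R) :
    IsInducedBlock M (Subgroup.centralizer (R : Set G))
      (principalBlock M (Subgroup.centralizer (R : Set G))) (principalBlock M G) := by
  obtain ⟨B₀, hB₀⟩ := exists_isInducedBlock_pcentralizer hM hR
    (f := principalBlock M (Subgroup.centralizer (R : Set G))) isPBlock_principalBlock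
  exact (Cfsg.Agent.S0936.result p M hM (Subgroup.centralizer (R : Set G)) _ ⟨B₀, hB₀⟩).2 rfl

theorem isDefectGroup_principal (hM : IsPModular p M) (P : Sylow p G) :
    IsDefectGroup p M (principalBlock M G) (P : Subgroup G) := by
  have := Fintype.ofFinite G
  exact (Cfsg.Agent.S4652.result p M hM _).2 ⟨P, rfl⟩

/-- The data for the counts. -/
theorem pair_principal (hM : IsPModular p M) (P : Sylow p G) :
    ∃ (hB : IsPBlock M (principalBlock M G))
      (hc : IsPBlock M (principalBlock M (Subgroup.centralizer ((P : Subgroup G) : Set G)))),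
      PairOf p (ebar hB) P (eIn hc) ∧ NoExt p P (eIn hc) ∧
        pairStab P (eIn hc) = Subgroup.normalizer ((P : Subgroup G) : Set G) := by
  obtain ⟨hB, hc, hP, hno, -, -⟩ := exists_root_pair hM (isDefectGroup_principal hM P)
    (isInducedBlock_principal hM P.isPGroup')
  refine ⟨hB, hc, hP, hno, SetLike.ext fun g => ?_⟩
  rw [CfsgLib.Blk83.mem_pairStab_iff hc]
  exact ⟨fun h => h.1, fun h => ⟨h, CfsgLib.Blk83.stabilizes_principal _
    (normalizer_le_normalizer_centralizer _ h)⟩⟩

/-- Watanabe's theorem for the principal block. -/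
theorem principal_watanabe (hM : IsPModular p M) (P : Sylow p G)
    (hab : ∀ x ∈ (P : Subgroup G), ∀ y ∈ (P : Subgroup G), x * y = y * x) {u : G}
    (hu : u ∈ (P : Subgroup G))
    (hfix : ∀ g ∈ Subgroup.normalizer ((P : Subgroup G) : Set G), g * u * g⁻¹ = u) :
    blockRank p (principalBlock M G) =
        blockRank p (principalBlock M (Subgroup.centralizer ({u} : Set G))) ∧
      Nat.card (principalBlock M G) =
        Nat.card (principalBlock M (Subgroup.centralizer ({u} : Set G))) := by
  classical
  have huz : Subgroup.zpowers u ≤ (P : Subgroup G) := Subgroup.zpowers_le.2 hu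
  have hf : IsPBlock M (principalBlock M (Subgroup.centralizer (Subgroup.zpowers u : Set G))) :=
    isPBlock_principalBlock
  have hc : IsPBlock M (principalBlock M (Subgroup.centralizer ((P : Subgroup G) : Set G))) :=
    isPBlock_principalBlock
  have hPN : (P : Subgroup G) ≤ Subgroup.normalizer (Subgroup.zpowers u : Set G) :=
    (show (P : Subgroup G) ≤ Subgroup.centralizer (Subgroup.zpowers u : Set G) from fun x hx =>
      Subgroup.mem_centralizer_iff.2 fun q hq => hab q (huz hq) x hx).trans
      (Subgroup.centralizer_le_normalizer _)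
  obtain ⟨f', hf'⟩ := exists_ns (isPair_eIn P.isPGroup' hc) huz hPN
  have h1 : aug f' = 1 := hf'.aug_eq_one ((aug_eIn_eq_one_iff hc).2 rfl)
  have heq : f' = eIn hf :=
    (existsUnique_principal (Subgroup.centralizer (Subgroup.zpowers u : Set G))).unique
      ⟨hf'.pairQ.block, h1⟩ ⟨isBlockIdem_eIn hf, (aug_eIn_eq_one_iff hf).2 rfl⟩
  have hin : IsInducedBlockIn M (Subgroup.centralizer (Subgroup.zpowers u : Set G))
      (Subgroup.centralizer ((P : Subgroup G) : Set G))
      (principalBlock M (Subgroup.centralizer ((P : Subgroup G) : Set G)))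
      (principalBlock M (Subgroup.centralizer (Subgroup.zpowers u : Set G))) :=
    (isInducedBlockIn_iff_sle hM P.isPGroup' hab huz hc hf).2 (heq ▸ hf'.sle)
  have hH : Subgroup.centralizer (Subgroup.zpowers u : Set G) = Subgroup.centralizer ({u} : Set G) := by
    rw [Subgroup.zpowers_eq_closure, Subgroup.centralizer_closure]
  rw [← hH]
  exact CfsgLib.BlockRank.Watanabe.rank_eq_and_card_eq hM
    (fun G _ _ B hB P e h1 h2 h3 => CfsgLib.BlockTwist.starProps hM hB h1 h2 h3)
    isPBlock_principalBlock (isDefectGroup_principal hM P) hab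
    (isInducedBlock_principal hM P.isPGroup')
    (T := Subgroup.normalizer ((P : Subgroup G) : Set G))
    (fun g => ⟨fun h => ⟨h, CfsgLib.Blk83.stabilizes_principal _
      (normalizer_le_normalizer_centralizer _ h)⟩, fun h => h.1⟩)
    hu hfix hH hin

end CfsgLib.CoreEmbedded
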