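import Cfsg.Agent.Lib.AbInvCent.Main
import Cfsg.Agent.Lib.SL2Deg.Degrees
import Cfsg.Agent.Lib.SL2Deg.Classes
import Cfsg.Agent.Lib.Invol.SectionAverage
import Cfsg.Agent.Lib.Blk83.OneBlock
import Cfsg.Agent.Lib.CharDeep.Induction
import Mathlib.GroupTheory.Transfer

/-!
# Groups with trivial core whose involution centralizers are abelian `2`-groups
-/

set_option autoImplicit false
set_option linter.unusedSectionVars false
set_option linter.style.haveILetI false

open Cfsg
open scoped ComplexConjugate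

namespace CfsgLib.CoreEmbedded

universe u

variable {Q : Type u} [Group Q] [Finite Q] (P : Sylow 2 Q)
  (hab : ∀ x ∈ (P : Subgroup Q), ∀ y ∈ (P : Subgroup Q), x * y = y * x)
  (hodd : ∀ t c : Q, orderOf t = 2 → Commute c t → Odd (orderOf c) → c = 1)
include hab hodd

/-- The `2`-power of an element centralizing an involution is trivial. -/
theorem pow_two_part {t c : Q} (ht : orderOf t = 2) (hc : Commute c t) :
    c ^ 2 ^ (orderOf c).factorization 2 = 1 :=
  hodd t _ ht (hc.pow_left _) (by
    rw [orderOf_pow_of_dvd (pow_ne_zero _ two_ne_zero) (Nat.ordProj_dvd _ _),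
      ← Nat.not_even_iff_odd, even_iff_two_dvd]
    exact Nat.not_dvd_ordCompl Nat.prime_two (orderOf_pos c).ne')

theorem isPGroup_centralizer {t : Q} (ht : orderOf t = 2) :
    IsPGroup 2 (Subgroup.centralizer ({t} : Set Q)) := fun c =>
  ⟨_, Subtype.ext (pow_two_part P hab hodd ht (Subgroup.mem_centralizer_singleton_iff.1 c.2))⟩

/-- The centralizer of an involution is abelian. -/
theorem isMulCommutative_centralizer {t : Q} (ht : orderOf t = 2) :
    IsMulCommutative (Subgroup.centralizer ({t} : Set Q)) := by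
  have : Fact (Nat.Prime 2) := ⟨Nat.prime_two⟩
  have hp := isPGroup_centralizer P hab hodd ht
  obtain ⟨S, hS⟩ := hp.exists_le_sylow
  obtain ⟨g, rfl⟩ := MulAction.exists_smul_eq Q P S
  have hmem : ∀ x ∈ Subgroup.centralizer ({t} : Set Q), g⁻¹ * x * g ∈ (P : Subgroup Q) := by
    intro x hx
    have := hS hx
    rw [Sylow.coe_subgroup_smul, Subgroup.mem_pointwise_smul_iff_inv_smul_mem] at this
    simpa [mul_assoc, MulAut.conj] using this
  refine ⟨⟨fun a b => Subtype.ext ?_⟩⟩
  have e := hab _ (hmem a a.2) _ (hmem b b.2)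
  show (a : Q) * b = b * a
  calc (a : Q) * b = g * (g⁻¹ * a * g * (g⁻¹ * b * g)) * g⁻¹ := by group
    _ = g * (g⁻¹ * b * g * (g⁻¹ * a * g)) * g⁻¹ := by rw [e]
    _ = (b : Q) * a := by group

/-- Either the Sylow subgroup is normal or the centralizers are elementary abelian. -/
theorem normal_or_elemCent (hnc : ¬ IsCyclic (P : Subgroup Q)) :
    (P : Subgroup Q).Normal ∨ SEmb.ElemCent P := by
  have : Fact (Nat.Prime 2) := ⟨Nat.prime_two⟩
  refine Classical.or_iff_not_imp_left.2 fun hnn => ⟨hnc, hnn, fun t ht =>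
    ⟨isMulCommutative_centralizer P hab hodd ht, fun c hc => ?_⟩⟩
  obtain ⟨h1, -⟩ := AbInvCent.claim (P := P)
    ⟨fun s hs => isMulCommutative_centralizer P hab hodd hs, hnc, hnn⟩
  have hp : IsPGroup 2 (Subgroup.zpowers c) := by
    intro x
    obtain ⟨k, hk⟩ : ∃ k : ℕ, c ^ 2 ^ k = 1 :=
      ⟨_, pow_two_part P hab hodd ht (Subgroup.mem_centralizer_singleton_iff.1 hc)⟩
    refine ⟨k, Subtype.ext ?_⟩
    obtain ⟨i, hi⟩ := Subgroup.mem_zpowers_iff.1 x.2
    rw [SubmonoidClass.coe_pow, ← hi, ← zpow_natCast, ← zpow_mul, mul_comm, zpow_mul,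
      zpow_natCast, hk, one_zpow]
    rfl
  obtain ⟨S, hS⟩ := hp.exists_le_sylow
  obtain ⟨g, rfl⟩ := MulAction.exists_smul_eq Q P S
  have := hS (Subgroup.mem_zpowers c)
  rw [Sylow.coe_subgroup_smul, Subgroup.mem_pointwise_smul_iff_inv_smul_mem] at this
  have e : g⁻¹ * c * g * (g⁻¹ * c * g) = 1 := h1 _ (by simpa [mul_assoc, MulAut.conj] using this)
  rw [pow_two]
  calc c * c = g * (g⁻¹ * c * g * (g⁻¹ * c * g)) * g⁻¹ := by group
    _ = 1 := by rw [e, mul_one, mul_inv_cancel]

/-- A character vanishing at every involution of an elementary abelian Sylow subgroup. -/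
theorem card_le_principalBlock {M : Ideal AlgInt} (hM : IsPModular 2 M) (hC : SEmb.ElemCent P)
    (h4 : 4 ≤ Nat.card P) : Nat.card P ≤ Nat.card (principalBlock M Q) := by
  classical
  have : Fact (Nat.Prime 2) := ⟨Nat.prime_two⟩
  cases nonempty_fintype Q
  obtain ⟨F, _, _, hcard, -, ⟨φ⟩⟩ := hC.nonempty_equiv_SL2
  have h4F : 4 ≤ Fintype.card F := hcard ▸ h4
  obtain ⟨St, -, -, hdeg⟩ := SL2Deg.classification (F := F) h4F
  -- a character outside the principal block vanishes at the involutions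
  have hvan : ∀ χ : IrrCharacter Q, χ ∉ Invol.BlockCol.pBlock M Q →
      ∀ t : Q, orderOf t = 2 → (χ : Q → ℂ) t = 0 := by
    intro χ hχ t ht
    have hp := isPGroup_centralizer P hab hodd ht
    obtain ⟨a, ha⟩ := IsPGroup.iff_card.1 hp
    haveI : Fintype (⊥ : Subgroup (Subgroup.centralizer ({t} : Set Q))) := Fintype.ofFinite _
    have h := Invol.SectionAverage.sum_section_coset hM (x := t) ⟨1, by rw [ht, pow_one]⟩ ⊥
      (by rw [Subgroup.card_bot]; decide) (k := a) (by rw [Subgroup.index_bot, ha]) χ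
    rw [if_neg hχ, Fintype.sum_unique] at h
    simpa [Subgroup.mem_bot.1 (default : (⊥ : Subgroup (Subgroup.centralizer ({t} : Set Q)))).2]
      using h
  -- such a character has degree divisible by `|P|`
  have hdvd : ∀ χ : IrrCharacter Q, χ ∉ Invol.BlockCol.pBlock M Q →
      ∃ z : ℤ, (χ : Q → ℂ) 1 = (Nat.card P : ℂ) * z := by
    intro χ hχ
    haveI : Fintype (P : Subgroup Q) := Fintype.ofFinite _
    obtain ⟨z, hz⟩ := CfsgLib.CharDeep.Ind.exists_int_classInner
      (CfsgLib.Char.IsCharacter.isGeneralizedCharacter (CfsgLib.Char.IsCharacter.restrict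
        (CfsgLib.Char.IsIrrCharacter.isCharacter χ.2) (P : Subgroup Q)))
      (CfsgLib.Char.isIrrCharacter_monoidHom (1 : (P : Subgroup Q) →* ℂˣ))
    refine ⟨z, ?_⟩
    rw [← hz, classInner, Finset.sum_eq_single (1 : (P : Subgroup Q))]
    · simp [Nat.card_eq_fintype_card]
    · intro x _ hx1
      have hx : orderOf (x : Q) = 2 := by
        refine orderOf_eq_prime ?_ (fun e => hx1 (Subtype.ext e))
        obtain ⟨t, ht⟩ := exists_prime_orderOf_dvd_card' (G := (P : Subgroup Q)) 2 (by
          obtain ⟨k, hk⟩ := IsPGroup.iff_card.1 P.isPGroup'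
          rw [hk]; exact dvd_pow_self 2 (by rintro rfl; rw [pow_zero] at hk; omega))
        exact (hC.hC t (by rw [Subgroup.orderOf_coe, ht])).2 x
          (Subgroup.mem_centralizer_singleton_iff.2 (hab x x.2 t t.2))
      rw [hvan χ hχ _ hx, zero_mul]
    · exact fun h => absurd (Finset.mem_univ _) h
  -- at most one such character
  have hone : ∀ χ : IrrCharacter Q, χ ∉ Invol.BlockCol.pBlock M Q →
      CfsgLib.Blk83.irrComp φ.symm χ = St := by
    intro χ hχ
    obtain ⟨d, hd, hd1, hdSt⟩ := hdeg (CfsgLib.Blk83.irrComp φ.symm χ)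
    refine hdSt ?_
    obtain ⟨z, hz⟩ := hdvd χ hχ
    rw [CfsgLib.Blk83.irrComp_apply, map_one, hz, ← hcard] at hd1
    have hzd : (Fintype.card F : ℤ) * z = (d : ℤ) := by exact_mod_cast hd1
    simp only [SL2Deg.degList, Set.mem_ofPred_eq] at hd
    have hd0 : 0 < d := by
      rcases hd with e | e | e | e | ⟨-, e | e⟩ <;> omega
    have hlt : (d : ℤ) < 2 * Fintype.card F := by
      rcases hd with e | e | e | e | ⟨-, e | e⟩ <;> omega
    have hz1 : z = 1 := by
      rcases lt_trichotomy z 1 with h | h | h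
      · exfalso; nlinarith
      · exact h
      · exfalso; nlinarith
    rw [hz1, mul_one] at hzd
    exact_mod_cast hzd.symm
  have hirr : Fintype.card F + 1 ≤ Nat.card (IrrCharacter Q) := by
    haveI : CharP F 2 := SL2Deg.charP_two_of_even (by
      rw [hcard]
      obtain ⟨k, hk⟩ := IsPGroup.iff_card.1 P.isPGroup'
      rw [hk]
      intro ho
      rcases k with - | k
      · rw [pow_zero] at hk; omega
      · exact Nat.not_even_iff_odd.2 ho ⟨2 ^ k, by rw [pow_succ]; ring⟩)
    have h := SL2Deg.card_classes_even (F := F)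
    rw [← CfsgLib.Char.card_irrCharacter] at h
    refine h.trans (Nat.card_le_card_of_injective (CfsgLib.Blk83.irrComp φ) fun a b e => ?_)
    refine Subtype.ext (funext fun x => ?_)
    simpa using congrArg (fun χ : IrrCharacter Q => (χ : Q → ℂ) (φ.symm x)) e
  have hcompl : (Finset.univ \ Invol.BlockCol.pBlock M Q).card ≤ 1 := by
    refine Finset.card_le_one.2 fun a ha b hb => ?_
    have e := (hone a (Finset.mem_sdiff.1 ha).2).trans (hone b (Finset.mem_sdiff.1 hb).2).symm
    refine Subtype.ext (funext fun x => ?_)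
    simpa using congrArg (fun χ : IrrCharacter _ => (χ : _ → ℂ) (φ x)) e
  rw [Finset.card_sdiff_of_subset (Finset.subset_univ _), Finset.card_univ,
    ← Nat.card_eq_fintype_card] at hcompl
  have : Nat.card (principalBlock M Q) = (Invol.BlockCol.pBlock M Q).card := by
    rw [← Nat.card_eq_finsetCard]
    exact Nat.card_congr (Equiv.subtypeEquivRight fun χ => Invol.BlockCol.mem_pBlock.symm)
  omega

/-- With a normal Sylow subgroup and trivial core every character is in the principal block. -/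
theorem centralizer_le_of_normal [hn : (P : Subgroup Q).Normal]
    (hO : Cfsg.pPrimeCore 2 Q = ⊥) :
    Subgroup.centralizer ((P : Subgroup Q) : Set Q) ≤ (P : Subgroup Q) := by
  have : Fact (Nat.Prime 2) := ⟨Nat.prime_two⟩
  set C := Subgroup.centralizer ((P : Subgroup Q) : Set Q) with hC
  have hPC : (P : Subgroup Q) ≤ C := fun x hx =>
    Subgroup.mem_centralizer_iff.2 fun y hy => hab y hy x hx
  intro c hc
  obtain ⟨t, ht⟩ : ∃ t ∈ (P : Subgroup Q), orderOf t = 2 ∨ (P : Subgroup Q) = ⊥ := by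
    rcases eq_or_ne (P : Subgroup Q) ⊥ with h | h
    · exact ⟨1, Subgroup.one_mem _, Or.inr h⟩
    · obtain ⟨k, hk⟩ := IsPGroup.iff_card.1 P.isPGroup'
      have hk0 : k ≠ 0 := by
        rintro rfl; exact h (Subgroup.card_eq_one.1 (by rw [hk, pow_zero]))
      obtain ⟨t, ht⟩ := exists_prime_orderOf_dvd_card' (G := (P : Subgroup Q)) 2
        (hk ▸ dvd_pow_self 2 hk0)
      exact ⟨t, t.2, Or.inl (by rw [Subgroup.orderOf_coe, ht])⟩
  rcases ht.2 with ht2 | hbot
  · obtain ⟨S, hS⟩ : ∃ S : Sylow 2 Q, Subgroup.zpowers c ≤ (S : Subgroup Q) := by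
      have hp : IsPGroup 2 (Subgroup.zpowers c) := by
        intro x
        have hct : Commute c t := (Subgroup.mem_centralizer_iff.1 hc t ht.1).symm
        refine ⟨(orderOf c).factorization 2, Subtype.ext ?_⟩
        obtain ⟨i, hi⟩ := Subgroup.mem_zpowers_iff.1 x.2
        have h0 : c ^ 2 ^ (orderOf c).factorization 2 = 1 := hodd t _ ht2 (hct.pow_left _) (by
          rw [orderOf_pow_of_dvd (pow_ne_zero _ two_ne_zero) (Nat.ordProj_dvd _ _),
            ← Nat.not_even_iff_odd, even_iff_two_dvd]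
          exact Nat.not_dvd_ordCompl Nat.prime_two (orderOf_pos c).ne')
        rw [SubmonoidClass.coe_pow, ← hi, ← zpow_natCast, ← zpow_mul, mul_comm, zpow_mul,
          zpow_natCast, h0, one_zpow]
        rfl
      exact hp.exists_le_sylow
    obtain ⟨g, rfl⟩ := MulAction.exists_smul_eq Q P S
    have := hS (Subgroup.mem_zpowers c)
    rw [Sylow.coe_subgroup_smul, Subgroup.mem_pointwise_smul_iff_inv_smul_mem] at this
    have h2 := hn.conj_mem _ this g
    simpa [mul_assoc, MulAut.conj] using h2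
  · have hodd1 : (Nat.card Q).Coprime 2 := by
      have h := P.not_dvd_index
      rw [hbot, Subgroup.index_bot] at h
      exact (Nat.prime_two.coprime_iff_not_dvd.2 h).symm
    have : (⊤ : Subgroup Q) ≤ ⊥ :=
      hO ▸ CfsgLib.Solvable.le_pPrimeCore (inferInstance : (⊤ : Subgroup Q).Normal)
        (by rwa [Subgroup.card_top])
    rw [hbot]
    exact this (Subgroup.mem_top c)

end CfsgLib.CoreEmbedded
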