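import Cfsg.Agent.Lib.CoreEmbedded.AbelianSylow
import Cfsg.Agent.Lib.CoreEmbedded.Quotient
import Cfsg.Agent.Lib.CoreEmbedded.Principal
import Cfsg.Agent.Lib.CoreEmbedded.Homocyclic
import Cfsg.Agent.Lib.Invol.HomocyclicSylow
import Cfsg.Agent.Lib.Solvable.Core

/-!
# The principal `2`-block with an abelian Sylow subgroup and a free inertial quotient of prime order
-/

set_option autoImplicit false
set_option linter.unusedSectionVars false
set_option linter.style.haveILetI false
set_option maxHeartbeats 1000000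
set_option synthInstance.maxHeartbeats 400000

open Cfsg CfsgLib.Blocks CfsgLib.Blocks.Pairs

namespace CfsgLib.CoreEmbedded

universe u

variable {G : Type u} [Group G] [Finite G]

/-- The rank of the principal block is unchanged by passing to the quotient by the core. -/
theorem blockRank_quotient {p : ℕ} [Fact p.Prime] {M : Ideal AlgInt} (hM : IsPModular p M)
    (N : Subgroup G) [N.Normal] (hN : ¬ p ∣ Nat.card N) :
    blockRank p (principalBlock M G) = blockRank p (principalBlock M (G ⧸ N)) := by
  classical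
  set L : (G ⧸ N → ℂ) →ₗ[ℂ] (G → ℂ) := LinearMap.funLeft ℂ ℂ (QuotientGroup.mk' N) with hL
  have hLinj : Function.Injective L :=
    LinearMap.funLeft_injective_of_surjective _ _ _ (QuotientGroup.mk'_surjective N)
  rw [blockRank, blockRank, ← (CfsgLib.Blk83.inflIrr_bijOn hM N hN).image_eq,
    LinearEquiv.finrank_eq (Submodule.equivMapOfInjective L hLinj
      (Submodule.span ℂ ((fun χ : IrrCharacter (G ⧸ N) => pRegularPart p (χ : G ⧸ N → ℂ)) ''
        principalBlock M (G ⧸ N)))),
    Submodule.map_span, Set.image_image, Set.image_image]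
  refine congrArg (fun S : Set (G → ℂ) => Module.finrank ℂ ↥(Submodule.span ℂ S))
    (Set.image_congr fun η _ => ?_)
  funext g
  show pRegularPart p (CfsgLib.Blk83.inflIrr N η : G → ℂ) g =
    pRegularPart p (η : G ⧸ N → ℂ) (QuotientGroup.mk g)
  simp only [pRegularPart, CfsgLib.Blk83.inflIrr_apply]
  exact if_congr (CfsgLib.Blk83.isPRegular_mk_iff N hN g) rfl rfl

theorem card_quotient {p : ℕ} [Fact p.Prime] {M : Ideal AlgInt} (hM : IsPModular p M)
    (N : Subgroup G) [N.Normal] (hN : ¬ p ∣ Nat.card N) :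
    Nat.card (principalBlock M G) = Nat.card (principalBlock M (G ⧸ N)) :=
  (Nat.card_congr ((CfsgLib.Blk83.inflIrr_bijOn hM N hN).equiv _)).symm

variable (P : Sylow 2 G) (hab : ∀ x ∈ (P : Subgroup G), ∀ y ∈ (P : Subgroup G), x * y = y * x)
  (hfree : ∀ n ∈ Subgroup.normalizer ((P : Subgroup G) : Set G), ∀ x ∈ (P : Subgroup G), x ≠ 1 →
    n * x * n⁻¹ = x → n ∈ Subgroup.centralizer ((P : Subgroup G) : Set G))
  (he : ((Subgroup.centralizer ((P : Subgroup G) : Set G)).relIndex
    (Subgroup.normalizer ((P : Subgroup G) : Set G))).Prime)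

set_option quotPrecheck false in
local notation "eP" => (Subgroup.centralizer ((P : Subgroup G) : Set G)).relIndex
  (Subgroup.normalizer ((P : Subgroup G) : Set G))

include hab he in
theorem exists_generator : ∃ n ∈ Subgroup.normalizer ((P : Subgroup G) : Set G),
    n ∉ Subgroup.centralizer ((P : Subgroup G) : Set G) ∧
      n ^ eP ∈ Subgroup.centralizer ((P : Subgroup G) : Set G) := by
  obtain ⟨n, hn, hn'⟩ := SetLike.not_le_iff_exists.1
    (fun h => he.ne_one (Subgroup.relIndex_eq_one.2 h))
  refine ⟨n, hn, hn', ?_⟩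
  have hk : ((Subgroup.centralizer ((P : Subgroup G) : Set G)).subgroupOf
      (Subgroup.normalizer ((P : Subgroup G) : Set G))).Normal := by
    rw [← Subgroup.normalizerMonoidHom_ker]
    exact MonoidHom.normal_ker _
  have := Subgroup.pow_index_mem ((Subgroup.centralizer ((P : Subgroup G) : Set G)).subgroupOf
      (Subgroup.normalizer ((P : Subgroup G) : Set G))) ⟨n, hn⟩
  rw [Subgroup.mem_subgroupOf, SubmonoidClass.coe_pow] at this
  exact this

include hab hfree he in
/-- The counts and the structure of the quotient by the core. -/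
theorem counts_free {M : Ideal AlgInt} (hM : IsPModular 2 M) :
    blockRank 2 (principalBlock M G) = eP ∧ ∃ m : ℕ, Nat.card P = 1 + eP * m ∧
      Nat.card (principalBlock M G) = eP + m ∧ (2 ≤ m → Group.IsSolvable G) := by
  classical
  have : Fact (Nat.Prime 2) := ⟨Nat.prime_two⟩
  haveI := hM.2.1
  haveI : CharP (ResField M) 2 := charP_resField hM.1 hM.2.2
  cases nonempty_fintype G
  obtain ⟨n₀, hn₀N, hn₀C, hn₀e⟩ := exists_generator P hab he
  obtain ⟨x₀, hx₀, hx₀1⟩ : ∃ x ∈ (P : Subgroup G), x ≠ 1 := by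
    by_contra h
    push Not at h
    exact hn₀C (Subgroup.mem_centralizer_iff.2 fun y hy => by rw [h y hy, one_mul, mul_one])
  have hP1 : (P : Subgroup G) ≠ ⊥ := fun h => hx₀1 (Subgroup.mem_bot.1 (h ▸ hx₀))
  obtain ⟨hB, hc, hPair, hno, hst⟩ := pair_principal hM P
  obtain ⟨m, -, hcard, hk, hle, hl3⟩ := FreeInertial.counts hM hB hPair hno hab hP1
    (fun g hg x hx hx1 hgx => hfree g (hst ▸ hg) x hx hx1 hgx) (n := eP) (by rw [hst])
  -- it suffices to bound the rank or the number of characters from below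
  suffices key : (eP ≤ 3 ∨ eP ≤ blockRank 2 (principalBlock M G) ∨
      1 + eP * m ≤ Nat.card (principalBlock M G)) ∧ (2 ≤ m → Group.IsSolvable G) by
    have hl : blockRank 2 (principalBlock M G) = eP := by
      rcases key.1 with h | h | h
      · exact hl3 h
      · omega
      · have he2 := he.two_le
        have hm0 : 1 ≤ m := by
          have h1 : 1 < Nat.card (P : Subgroup G) := Subgroup.one_lt_card_iff_ne_bot _ |>.2 hP1
          rcases Nat.eq_zero_or_pos m with rfl | h0
          · omega
          · exact h0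
        have : m = 1 := by
          by_contra hm1
          have : eP * m ≥ eP + (m - 1) * 2 := by
            obtain ⟨j, rfl⟩ : ∃ j, m = j + 1 := ⟨m - 1, by omega⟩
            rw [Nat.add_sub_cancel]
            nlinarith
          omega
        subst this
        omega
    exact ⟨hl, m, hcard, by omega, key.2⟩
  -- the subgroup of square roots of one
  let A : Subgroup G :=
    { carrier := {x | x ∈ (P : Subgroup G) ∧ x ^ 2 = 1}
      one_mem' := ⟨Subgroup.one_mem _, one_pow 2⟩
      mul_mem' := fun {a b} ha hb => ⟨Subgroup.mul_mem _ ha.1 hb.1, by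
        rw [(show Commute a b from hab a ha.1 b hb.1).mul_pow, ha.2, hb.2, one_mul]⟩
      inv_mem' := fun {a} ha => ⟨Subgroup.inv_mem _ ha.1, by rw [inv_pow, ha.2, inv_one]⟩ }
  have hA : A ≤ (P : Subgroup G) := fun x hx => hx.1
  have hA2 : ∀ a ∈ A, a ^ 2 = 1 := fun a ha => ha.2
  have hAall : ∀ a ∈ (P : Subgroup G), orderOf a = 2 → a ∈ A := fun a ha ha2 =>
    ⟨ha, ha2 ▸ pow_orderOf_eq_one a⟩
  by_cases h8 : 2 ^ 3 ≤ Nat.card A
  · -- rank at least three: pass to the quotient by the core
    set O := Cfsg.pPrimeCore 2 G with hO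
    haveI : O.Normal := CfsgLib.Solvable.pPrimeCore_normal 2 G
    have hOcop : (Nat.card O).Coprime 2 := CfsgLib.Solvable.pPrimeCore_card_coprime 2 G
    have hO2 : ¬ 2 ∣ Nat.card O := Nat.prime_two.coprime_iff_not_dvd.1 hOcop.symm
    have hOodd : Odd (Nat.card O) := Nat.coprime_two_right.1 hOcop
    have hcore : Cfsg.pPrimeCore 2 (G ⧸ O) = ⊥ := CfsgLib.Solvable.pPrimeCore_quotient_eq_bot O rfl
    set π := QuotientGroup.mk' O with hπ
    set T : Sylow 2 (G ⧸ O) := P.mapSurjective (QuotientGroup.mk'_surjective O) with hT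
    have hTmem : ∀ q, q ∈ (T : Subgroup (G ⧸ O)) ↔ ∃ x ∈ (P : Subgroup G), π x = q := fun q => by
      rw [hT, Sylow.coe_mapSurjective, Subgroup.mem_map]
    have habT : ∀ x ∈ (T : Subgroup (G ⧸ O)), ∀ y ∈ (T : Subgroup (G ⧸ O)), x * y = y * x := by
      intro x hx y hy
      obtain ⟨a, ha, rfl⟩ := (hTmem x).1 hx
      obtain ⟨b, hb, rfl⟩ := (hTmem y).1 hy
      rw [← map_mul, hab a ha b hb, map_mul]
    have hinjP : ∀ x ∈ (P : Subgroup G), π x = 1 → x = 1 := by
      intro x hx h1
      obtain ⟨a, ha⟩ := (IsPGroup.iff_orderOf.1 P.isPGroup') ⟨x, hx⟩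
      rw [Subgroup.orderOf_mk] at ha
      have hxO : x ∈ O := (QuotientGroup.eq_one_iff x).1 h1
      have hd : orderOf x ∣ Nat.card O :=
        Subgroup.orderOf_mk x hxO ▸ orderOf_dvd_natCard (⟨x, hxO⟩ : O)
      rcases a with - | a
      · exact orderOf_eq_one_iff.1 (by rw [ha, pow_zero])
      · exact absurd ((dvd_pow_self 2 (Nat.succ_ne_zero a)).trans (ha ▸ hd)) hO2
    have hcardT : Nat.card T = Nat.card P := by
      refine (Nat.card_eq_of_bijective (fun x : (P : Subgroup G) =>
        (⟨π x, (hTmem _).2 ⟨x, x.2, rfl⟩⟩ : (T : Subgroup (G ⧸ O)))) ⟨fun a b e => ?_, ?_⟩).symm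
      · refine Subtype.ext (inv_mul_eq_one.1 (hinjP _ (Subgroup.mul_mem _ (Subgroup.inv_mem _ a.2) b.2) ?_))
        rw [map_mul, map_inv, show π a = π b from congrArg Subtype.val e, inv_mul_cancel]
      · rintro ⟨q, hq⟩
        obtain ⟨x, hx, rfl⟩ := (hTmem q).1 hq
        exact ⟨⟨x, hx⟩, rfl⟩
    -- centralizers of involutions in the quotient
    have hlift : ∀ t c : G ⧸ O, orderOf t = 2 → Commute c t →
        ∃ s a : G, orderOf s = 2 ∧ Commute a s ∧ π s = t ∧ π a = c := by
      intro t c ht hc
      obtain ⟨t₀, rfl⟩ := QuotientGroup.mk'_surjective O t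
      obtain ⟨c₀, rfl⟩ := QuotientGroup.mk'_surjective O c
      have ht2 : t₀ ^ 2 ∈ O := by
        rw [← QuotientGroup.eq_one_iff, ← QuotientGroup.mk'_apply, map_pow, ← ht, pow_orderOf_eq_one]
      set N := Nat.card O
      obtain ⟨i, hi⟩ := hOodd
      have hpN : ∀ x ∈ O, x ^ N = 1 := fun x hx => congrArg Subtype.val
        (pow_card_eq_one' (x := (⟨x, hx⟩ : O)))
      set s := t₀ ^ N with hs
      have hπs : π s = π t₀ := by
        rw [hs, hi, map_pow, pow_succ, pow_mul, ← ht, pow_orderOf_eq_one, one_pow, one_mul]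
      have hs2 : orderOf s = 2 := by
        refine Invol.orderOf_eq_two (fun e => ?_) ?_
        · rw [← hπs, e, map_one, orderOf_one] at ht
          omega
        · rw [hs, ← pow_add, ← two_mul, pow_mul, hpN _ ht2]
      set u := c₀ * s * c₀⁻¹ with hu
      have hu2 : orderOf u = 2 := by rw [hu, Invol.orderOf_conj, hs2]
      set v := s * u with hv
      have hvO : v ∈ O := by
        rw [← QuotientGroup.eq_one_iff, ← QuotientGroup.mk'_apply, hv, hu]
        simp only [map_mul, map_inv, ← hπ, hπs]
        rw [hc.eq, mul_inv_cancel_right, ← pow_two, ← ht, pow_orderOf_eq_one]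
      obtain ⟨k, hk⟩ : Odd (orderOf v) := Odd.of_dvd_nat ⟨i, hi⟩
        (orderOf_dvd_of_pow_eq_one (hpN v hvO))
      -- `v ^ k` conjugates `s` to `u`
      have e : v ^ k * s * (v ^ k)⁻¹ = u := by
        have hinv := Invol.conj_zpow_of_inverts
          (Invol.conj_prod (Invol.mul_self_eq_one hs2) (Invol.mul_self_eq_one hu2)) (k : ℤ)
        rw [zpow_natCast, zpow_neg, zpow_natCast, Invol.inv_eq_self hs2] at hinv
        have h3 : v ^ k * v ^ k * v = 1 := by
          rw [← pow_add, ← pow_succ, ← two_mul, ← hk, pow_orderOf_eq_one]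
        calc v ^ k * s * (v ^ k)⁻¹ = v ^ k * s * (s * v ^ k * s) := by rw [hinv]
          _ = v ^ k * (s * s) * v ^ k * s := by group
          _ = v ^ k * v ^ k * s := by rw [Invol.mul_self_eq_one hs2, mul_one]
          _ = v ^ k * v ^ k * v * u⁻¹ := by rw [hv]; group
          _ = u := by rw [h3, one_mul, Invol.inv_eq_self hu2]
      refine ⟨s, (v ^ k)⁻¹ * c₀, hs2, ?_, hπs, ?_⟩
      · show (v ^ k)⁻¹ * c₀ * s = s * ((v ^ k)⁻¹ * c₀)
        calc (v ^ k)⁻¹ * c₀ * s = (v ^ k)⁻¹ * (c₀ * s * c₀⁻¹) * c₀ := by group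
          _ = (v ^ k)⁻¹ * (v ^ k * s * (v ^ k)⁻¹) * c₀ := by rw [e]
          _ = _ := by group
      · rw [map_mul, map_inv, map_pow, show π v = 1 from (QuotientGroup.eq_one_iff v).2 hvO, one_pow,
          inv_one, one_mul]
    have hoddT : ∀ t c : G ⧸ O, orderOf t = 2 → Commute c t → Odd (orderOf c) → c = 1 := by
      intro t c ht hc hodd
      obtain ⟨s, a, hs, has, -, rfl⟩ := hlift t c ht hc
      set r := (orderOf a).factorization 2
      have hmem : a ^ 2 ^ r ∈ O := odd_mem_core P hab hfree hA hA2 h8 hAall hs (has.pow_left _) (by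
        rw [orderOf_pow_of_dvd (pow_ne_zero _ two_ne_zero) (Nat.ordProj_dvd _ _),
          ← Nat.not_even_iff_odd, even_iff_two_dvd]
        exact Nat.not_dvd_ordCompl Nat.prime_two (orderOf_pos a).ne')
      rw [← QuotientGroup.eq_one_iff, ← QuotientGroup.mk'_apply, map_pow] at hmem
      exact orderOf_eq_one_iff.1 (Nat.eq_one_of_dvd_coprimes
        ((Nat.coprime_two_right.2 hodd).pow_right r) dvd_rfl (orderOf_dvd_of_pow_eq_one hmem))
    have hncT : ¬ IsCyclic (T : Subgroup (G ⧸ O)) := by
      intro hcyc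
      haveI : Fintype (T : Subgroup (G ⧸ O)) := Fintype.ofFinite _
      have hle' : Nat.card A ≤
          (Finset.univ.filter fun q : (T : Subgroup (G ⧸ O)) => q ^ 2 = 1).card := by
        rw [← Nat.card_eq_finsetCard]
        refine Nat.card_le_card_of_injective (fun a : A => ⟨⟨π a, (hTmem _).2 ⟨a, a.2.1, rfl⟩⟩,
          Finset.mem_filter.2 ⟨Finset.mem_univ _, Subtype.ext (by
            rw [SubmonoidClass.coe_pow, ← map_pow, a.2.2, map_one]; rfl)⟩⟩) fun a b e => ?_
        have e' : π a = π b := congrArg (fun q => (q.1 : G ⧸ O)) e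
        refine Subtype.ext (inv_mul_eq_one.1 (hinjP _
          (Subgroup.mul_mem _ (Subgroup.inv_mem _ a.2.1) b.2.1) ?_))
        rw [map_mul, map_inv, e', inv_mul_cancel]
      have := hle'.trans (IsCyclic.card_pow_eq_one_le (n := 2) two_pos)
      omega
    rw [blockRank_quotient hM O hO2, card_quotient hM O hO2]
    rcases normal_or_elemCent T habT hoddT hncT with hn | hel
    · -- the Sylow subgroup is normal in the quotient
      haveI := hn
      have hcT := centralizer_le_of_normal T habT hoddT hcore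
      have huniv : principalBlock M (G ⧸ O) = Set.univ := by
        refine Set.eq_univ_of_forall fun χ => CfsgLib.Blk83.mem_principalBlock_of_centralizer_pCore_le
          hM ?_ χ
        have hTcore : (T : Subgroup (G ⧸ O)) = Cfsg.pCore 2 (G ⧸ O) :=
          le_antisymm (CfsgLib.Solvable.le_pCore hn T.isPGroup')
            (CfsgLib.Solvable.pCore_le_sylow T)
        rw [← hTcore]
        exact hcT
      -- the quotient by the Sylow subgroup
      have hg : ∀ q : G ⧸ O, ∃ g ∈ Subgroup.normalizer ((P : Subgroup G) : Set G), π g = q := by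
        intro q
        obtain ⟨g₀, rfl⟩ := QuotientGroup.mk'_surjective O q
        set U := (P : Subgroup G) ⊔ O with hU
        haveI hUn : U.Normal := by
          have e : U = (T : Subgroup (G ⧸ O)).comap π := by
            rw [hT, Sylow.coe_mapSurjective, Subgroup.comap_map_eq, QuotientGroup.ker_mk']
          rw [e]; exact hn.comap _
        have htop := Sylow.normalizer_sup_eq_top' P (N := U) le_sup_left
        have : g₀ ∈ Subgroup.normalizer ((P : Subgroup G) : Set G) ⊔ U := htop ▸ Subgroup.mem_top g₀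
        rw [hU, ← sup_assoc, sup_eq_left.2 (Subgroup.le_normalizer (H := (P : Subgroup G))),
          Subgroup.mem_sup_of_normal_right] at this
        obtain ⟨g, hgN, o, ho, rfl⟩ := this
        exact ⟨g, hgN, by
          rw [map_mul, show QuotientGroup.mk' O o = 1 from (QuotientGroup.eq_one_iff o).2 ho, mul_one]⟩
      have hTC : ∀ g ∈ Subgroup.normalizer ((P : Subgroup G) : Set G),
          π g ∈ (T : Subgroup (G ⧸ O)) → g ∈ Subgroup.centralizer ((P : Subgroup G) : Set G) := by
        intro g hgN hgT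
        refine Subgroup.mem_centralizer_iff.2 fun x hx => ?_
        have h1 : x⁻¹ * (g * x * g⁻¹) ∈ (P : Subgroup G) :=
          Subgroup.mul_mem _ (Subgroup.inv_mem _ hx) ((Subgroup.mem_normalizer_iff.1 hgN x).1 hx)
        have h2 := hinjP _ h1 (by
          rw [map_mul, map_mul, map_mul, map_inv, map_inv,
            habT _ hgT _ ((hTmem _).2 ⟨x, hx, rfl⟩), mul_inv_cancel_right, inv_mul_cancel])
        rw [inv_mul_eq_one] at h2
        rw [eq_mul_inv_iff_mul_eq] at h2
        exact h2
      refine ⟨Or.inr (Or.inl ?_), fun _ => ?_⟩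
      · rw [huniv, BlockRank.blockRank_univ]
        -- powers of an element of order prime to two
        set r := 2 ^ (orderOf n₀).factorization 2
        set y := π (n₀ ^ r) with hy
        have hcop : r.Coprime eP := by
          refine Nat.Coprime.pow_left _ ((Nat.prime_two.coprime_iff_not_dvd).2 fun h2 => ?_)
          have h4 : 2 ∣ Nat.card P := by
            obtain ⟨k, hk⟩ := IsPGroup.iff_card.1 P.isPGroup'
            rw [hk]
            refine dvd_pow_self 2 fun hk0 => hP1 (Subgroup.card_eq_one.1 ?_)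
            rw [hk, hk0, pow_zero]
          rw [hcard] at h4
          have := (Nat.dvd_add_left (dvd_mul_of_dvd_left h2 m)).1 h4
          omega
        have hyodd : Odd (orderOf y) := by
          refine Odd.of_dvd_nat ?_ (orderOf_map_dvd π _)
          rw [orderOf_pow_of_dvd (pow_ne_zero _ two_ne_zero) (Nat.ordProj_dvd _ _),
            ← Nat.not_even_iff_odd, even_iff_two_dvd]
          exact Nat.not_dvd_ordCompl Nat.prime_two (orderOf_pos n₀).ne'
        have hypow : ∀ i : ℕ, y ^ i ∈ (T : Subgroup (G ⧸ O)) → eP ∣ i := by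
          intro i hi
          rw [hy, ← map_pow, ← pow_mul] at hi
          have hmem := hTC _ (Subgroup.pow_mem _ hn₀N _) hi
          by_contra hnd
          have hcop2 : (r * i).Coprime eP :=
            hcop.mul_left ((he.coprime_iff_not_dvd.2 hnd).symm)
          have hb : n₀ ∈ Subgroup.centralizer ((P : Subgroup G) : Set G) := by
            have hbez := Nat.gcd_eq_gcd_ab (r * i) eP
            rw [hcop2] at hbez
            have : n₀ = (n₀ ^ (r * i)) ^ (Nat.gcdA (r * i) eP) * (n₀ ^ eP) ^ (Nat.gcdB (r * i) eP) := by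
              rw [← zpow_natCast n₀ (r * i), ← zpow_natCast n₀ eP, ← zpow_mul, ← zpow_mul,
                ← zpow_add, ← hbez, Nat.cast_one, zpow_one]
            rw [this]
            exact Subgroup.mul_mem _ (Subgroup.zpow_mem _ hmem _) (Subgroup.zpow_mem _ hn₀e _)
          exact hn₀C hb
        have hcommq : ∀ a b : G ⧸ O, a * b * a⁻¹ * b⁻¹ ∈ (T : Subgroup (G ⧸ O)) := by
          intro a b
          obtain ⟨g, hgN, rfl⟩ := hg a
          obtain ⟨g', hg'N, rfl⟩ := hg b
          set Nz := Subgroup.normalizer ((P : Subgroup G) : Set G)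
          set K := (Subgroup.centralizer ((P : Subgroup G) : Set G)).subgroupOf Nz with hK
          haveI : K.Normal := by
            rw [hK, ← Subgroup.normalizerMonoidHom_ker]
            exact MonoidHom.normal_ker _
          haveI : Fact (Nat.card (Nz ⧸ K)).Prime := ⟨he⟩
          haveI : IsCyclic (Nz ⧸ K) := isCyclic_of_prime_card rfl
          letI := IsCyclic.commGroup (α := Nz ⧸ K)
          have h1 : ((⟨g, hgN⟩ * ⟨g', hg'N⟩ * ⟨g, hgN⟩⁻¹ * ⟨g', hg'N⟩⁻¹ : Nz) : Nz ⧸ K) = 1 := by
            simp only [QuotientGroup.mk_mul, QuotientGroup.mk_inv]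
            rw [mul_comm (((⟨g, hgN⟩ : Nz) : Nz ⧸ K)) (((⟨g', hg'N⟩ : Nz) : Nz ⧸ K)),
              mul_inv_cancel_right, mul_inv_cancel]
          rw [QuotientGroup.eq_one_iff, hK, Subgroup.mem_subgroupOf] at h1
          have h2 : π (g * g' * g⁻¹ * g'⁻¹) ∈ Subgroup.centralizer ((T : Subgroup (G ⧸ O)) : Set (G ⧸ O)) := by
            refine Subgroup.mem_centralizer_iff.2 fun q hq => ?_
            obtain ⟨x, hx, rfl⟩ := (hTmem q).1 hq
            rw [← map_mul, ← map_mul]
            exact congrArg π (Subgroup.mem_centralizer_iff.1 h1 x hx)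
          simpa only [map_mul, map_inv] using hcT h2
        refine le_trans (Nat.card_fin eP).ge (Nat.card_le_card_of_injective
          (fun i : Fin eP => (⟨ConjClasses.mk (y ^ (i : ℕ)), fun g hg' => ?_⟩ :
            {C : ConjClasses (G ⧸ O) // ∀ g, ConjClasses.mk g = C → IsPRegular 2 g})) ?_)
        · rw [ConjClasses.mk_eq_mk_iff_isConj] at hg'
          rw [BlockRank.isPRegular_of_isConj hg']
          intro h2
          exact Nat.not_even_iff_odd.2 hyodd
            (even_iff_two_dvd.2 (h2.trans (orderOf_pow_dvd _)))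
        · intro i j e
          have e' := ConjClasses.mk_eq_mk_iff_isConj.1 (congrArg Subtype.val e)
          obtain ⟨q, hq⟩ := isConj_iff.1 e'
          have hmem : (y ^ (j : ℕ)) * (y ^ (i : ℕ))⁻¹ ∈ (T : Subgroup (G ⧸ O)) := by
            rw [← hq]; exact hcommq q _
          have hz : y ^ ((j : ℤ) - (i : ℤ)) ∈ (T : Subgroup (G ⧸ O)) := by
            rwa [zpow_sub, zpow_natCast, zpow_natCast]
          have hd : (eP : ℤ) ∣ (j : ℤ) - (i : ℤ) := by
            rcases Int.natAbs_eq ((j : ℤ) - (i : ℤ)) with h | h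
            · rw [h, zpow_natCast] at hz
              exact Int.natCast_dvd.2 (hypow _ hz)
            · rw [h, zpow_neg, zpow_natCast, Subgroup.inv_mem_iff] at hz
              exact Int.natCast_dvd.2 (hypow _ hz)
          have hi := i.2
          have hj := j.2
          have : (j : ℤ) - (i : ℤ) = 0 := Int.eq_zero_of_abs_lt_dvd hd (by rw [abs_lt]; omega)
          exact Fin.ext (by omega)
      · -- solvability
        haveI : Group.IsSolvable O := Cfsg.Agent.S0205.result hOodd
        haveI : Group.IsNilpotent (T : Subgroup (G ⧸ O)) := T.isPGroup'.isNilpotent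
        haveI : Group.IsSolvable ((G ⧸ O) ⧸ (T : Subgroup (G ⧸ O))) :=
          Cfsg.Agent.S0205.result (Nat.not_even_iff_odd.1 fun h => T.not_dvd_index
            (by rw [Subgroup.index_eq_card]; exact even_iff_two_dvd.1 h))
        haveI : Group.IsSolvable (G ⧸ O) := Group.isSolvable_of_ker_le_range
          ((T : Subgroup (G ⧸ O)).subtype) (QuotientGroup.mk' (T : Subgroup (G ⧸ O)))
          (by rw [QuotientGroup.ker_mk', Subgroup.range_subtype])
        exact Group.isSolvable_of_ker_le_range O.subtype (QuotientGroup.mk' O)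
          (by rw [QuotientGroup.ker_mk', Subgroup.range_subtype])
    · -- the quotient is `SL(2, q)`
      have hge := card_le_principalBlock T habT hoddT hM hel (by
        rw [hcardT]
        exact (show 4 ≤ 2 ^ 3 by norm_num).trans (h8.trans (Subgroup.card_le_of_le hA)))
      rw [hcardT, hcard] at hge
      refine ⟨Or.inr (Or.inr hge), fun hm2 => ?_⟩
      exfalso
      rw [← card_quotient hM O hO2] at hge
      rw [hk] at hge
      have h2 := he.two_le
      have : eP * m ≥ eP + m := by nlinarith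
      omega
  · -- rank at most two
    have hAcard : Nat.card A ≤ 4 := by
      obtain ⟨r, hr⟩ := IsPGroup.iff_card.1 (P.isPGroup'.to_le hA)
      rw [hr] at h8 ⊢
      have : r ≤ 2 := by
        by_contra hlt
        exact h8 (Nat.pow_le_pow_right two_pos (by omega))
      calc 2 ^ r ≤ 2 ^ 2 := Nat.pow_le_pow_right two_pos this
        _ = 4 := by norm_num
    obtain ⟨a, haA, ha1⟩ : ∃ a ∈ A, a ≠ 1 := by
      obtain ⟨k, hk⟩ := IsPGroup.iff_card.1 P.isPGroup'
      obtain ⟨t, ht⟩ := exists_prime_orderOf_dvd_card' (G := (P : Subgroup G)) 2 (by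
        rw [hk]
        refine dvd_pow_self 2 fun hk0 => hP1 (Subgroup.card_eq_one.1 ?_)
        rw [hk, hk0, pow_zero])
      refine ⟨t, hAall _ t.2 (by rw [Subgroup.orderOf_coe, ht]), fun e => ?_⟩
      rw [← Subgroup.orderOf_coe, e, orderOf_one] at ht
      omega
    haveI : Fintype {x : G // x ∈ A ∧ x ≠ 1} := Fintype.ofFinite _
    have hΩ : Fintype.card {x : G // x ∈ A ∧ x ≠ 1} ≤ 3 := by
      have h1 : Nat.card {x : G // x ∈ A ∧ x ≠ 1} + 1 ≤ Nat.card A := by
        rw [← Finite.card_option]
        refine Nat.card_le_card_of_injective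
          (fun o : Option {x : G // x ∈ A ∧ x ≠ 1} => o.elim (1 : A) fun x => ⟨x.1, x.2.1⟩) ?_
        rintro (- | x) (- | y) e
        · rfl
        · exact absurd (congrArg Subtype.val e).symm y.2.2
        · exact absurd (congrArg Subtype.val e) x.2.2
        · exact congrArg some (Subtype.ext (congrArg Subtype.val e :))
      rw [← Nat.card_eq_fintype_card]
      omega
    have hmove : ∀ n ∈ Subgroup.normalizer ((P : Subgroup G) : Set G), ∀ x,
        x ∈ A ∧ x ≠ 1 → n * x * n⁻¹ ∈ A ∧ n * x * n⁻¹ ≠ 1 := fun n hn x hx =>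
      ⟨⟨(Subgroup.mem_normalizer_iff.1 hn x).1 hx.1.1, by rw [conj_pow, hx.1.2, mul_one, mul_inv_cancel]⟩,
        by simpa using hx.2⟩
    let σ : Equiv.Perm {x : G // x ∈ A ∧ x ≠ 1} :=
      { toFun := fun x => ⟨n₀ * x.1 * n₀⁻¹, hmove n₀ hn₀N x.1 x.2⟩
        invFun := fun x => ⟨n₀⁻¹ * x.1 * n₀, by
          simpa using hmove n₀⁻¹ (Subgroup.inv_mem _ hn₀N) x.1 x.2⟩
        left_inv := fun x => Subtype.ext (by simp [mul_assoc])
        right_inv := fun x => Subtype.ext (by simp [mul_assoc]) }
    have hσpow : ∀ (i : ℕ) x, ((σ ^ i) x : G) = n₀ ^ i * x.1 * (n₀ ^ i)⁻¹ := by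
      intro i
      induction i with
      | zero => intro x; simp
      | succ i ih =>
        intro x
        rw [pow_succ', Equiv.Perm.mul_apply]
        show n₀ * ((σ ^ i) x : G) * n₀⁻¹ = _
        rw [ih, pow_succ']; group
    have hσe : σ ^ eP = 1 := by
      refine Equiv.ext fun x => Subtype.ext ?_
      rw [hσpow, Equiv.Perm.one_apply, ← Subgroup.mem_centralizer_iff.1 hn₀e x.1 x.2.1.1,
        mul_inv_cancel_right]
    have hσ1 : σ ≠ 1 := fun h => hn₀C (hfree n₀ hn₀N a haA.1 ha1 (by
      have := congrArg (fun τ : Equiv.Perm {x : G // x ∈ A ∧ x ≠ 1} => (τ ⟨a, haA, ha1⟩ : G)) h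
      simpa [σ] using this))
    have hord : orderOf σ = eP :=
      ((he.eq_one_or_self_of_dvd _ (orderOf_dvd_of_pow_eq_one hσe)).resolve_left fun h =>
        hσ1 (orderOf_eq_one_iff.1 h))
    have he3 : eP ≤ 3 := by
      have hd : eP ∣ Nat.factorial (Fintype.card {x : G // x ∈ A ∧ x ≠ 1}) := by
        rw [← hord, ← Fintype.card_perm, ← Nat.card_eq_fintype_card]
        exact orderOf_dvd_natCard σ
      exact ((he.dvd_factorial).1 hd).trans hΩ
    refine ⟨Or.inl he3, fun hm2 => ?_⟩
    -- homocyclic of rank two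
    letI : CommGroup (P : Subgroup G) :=
      { (inferInstance : Group (P : Subgroup G)) with
        mul_comm := fun u v => Subtype.ext (hab _ u.2 _ v.2) }
    let τ : (P : Subgroup G) ≃* (P : Subgroup G) :=
      Subgroup.normalizerMonoidHom (P : Subgroup G) ⟨n₀, hn₀N⟩
    have hτ : ∀ x : (P : Subgroup G), (τ x : G) = n₀ * (x : G) * n₀⁻¹ := fun x => rfl
    have hee : eP = 3 := by
      rcases Nat.lt_or_ge eP 3 with h | h
      · exfalso
        have h2 : eP = 2 := by have := he.two_le; omega
        obtain ⟨k, hk⟩ := IsPGroup.iff_card.1 P.isPGroup'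
        rcases k with - | k
        · exact hP1 (Subgroup.card_eq_one.1 (by rw [hk, pow_zero]))
        · rw [hk, h2, pow_succ] at hcard; omega
      · omega
    obtain ⟨k, hk1, ⟨iso⟩⟩ := nonempty_homocyclic P.isPGroup' τ
      (fun x hx => by
        by_contra hx1
        exact hn₀C (hfree n₀ hn₀N x x.2 (fun e => hx1 (Subtype.ext e))
          ((hτ x).symm.trans (congrArg Subtype.val hx))))
      (by
        refine le_trans (Nat.card_le_card_of_injective (fun w => (⟨(w.1 : G), w.1.2, ?_⟩ : A))
          fun u v e => Subtype.ext (Subtype.ext (congrArg Subtype.val e :))) hAcard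
        have := congrArg Subtype.val (MonoidHom.mem_ker.1 w.2)
        simpa using this)
      (by
        show 4 < Nat.card (P : Subgroup G)
        rw [hcard, hee]; omega)
    set O := Cfsg.pPrimeCore 2 G with hO
    haveI : O.Normal := CfsgLib.Solvable.pPrimeCore_normal 2 G
    have hOcop : (Nat.card O).Coprime 2 := CfsgLib.Solvable.pPrimeCore_card_coprime 2 G
    set T : Sylow 2 (G ⧸ O) := P.mapSurjective (QuotientGroup.mk'_surjective O) with hT
    have hTinj : Function.Injective ((QuotientGroup.mk' O).subgroupMap (P : Subgroup G)) := by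
      refine (injective_iff_map_eq_one _).2 fun x hx => Subtype.ext ?_
      have hxO : (x : G) ∈ O := (QuotientGroup.eq_one_iff _).1 (congrArg Subtype.val hx)
      obtain ⟨r, hr⟩ := (IsPGroup.iff_orderOf.1 P.isPGroup') x
      have hd : orderOf x ∣ Nat.card O := by
        rw [← Subgroup.orderOf_coe, ← Subgroup.orderOf_mk (x : G) hxO]
        exact orderOf_dvd_natCard _
      rcases r with - | r
      · exact congrArg Subtype.val (orderOf_eq_one_iff.1 (hr.trans (pow_zero _)))
      · exact absurd ((dvd_pow_self 2 (Nat.succ_ne_zero r)).trans (hr ▸ hd))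
          (Nat.prime_two.coprime_iff_not_dvd.1 hOcop.symm)
    let isoT : (T : Subgroup (G ⧸ O)) ≃* Multiplicative (ZMod (2 ^ (k + 1)) × ZMod (2 ^ (k + 1))) :=
      ((MulEquiv.subgroupCongr (Sylow.coe_mapSurjective _ P)).trans
        (MulEquiv.ofBijective _ ⟨hTinj, MonoidHom.subgroupMap_surjective _ _⟩).symm).trans iso
    haveI hn : (T : Subgroup (G ⧸ O)).Normal := Invol.Homocyclic2.normal_of_homocyclic k hk1 _ (G ⧸ O) rfl T isoT
      (CfsgLib.Solvable.pPrimeCore_quotient_eq_bot O rfl)
    haveI : Group.IsSolvable O := Cfsg.Agent.S0205.result (Nat.coprime_two_right.1 hOcop)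
    haveI : Group.IsNilpotent (T : Subgroup (G ⧸ O)) := T.isPGroup'.isNilpotent
    haveI : Group.IsSolvable ((G ⧸ O) ⧸ (T : Subgroup (G ⧸ O))) :=
      Cfsg.Agent.S0205.result (Nat.not_even_iff_odd.1 fun h => T.not_dvd_index
        (by rw [Subgroup.index_eq_card]; exact even_iff_two_dvd.1 h))
    haveI : Group.IsSolvable (G ⧸ O) := Group.isSolvable_of_ker_le_range
      ((T : Subgroup (G ⧸ O)).subtype) (QuotientGroup.mk' (T : Subgroup (G ⧸ O)))
      (by rw [QuotientGroup.ker_mk', Subgroup.range_subtype])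
    exact Group.isSolvable_of_ker_le_range O.subtype (QuotientGroup.mk' O)
      (by rw [QuotientGroup.ker_mk', Subgroup.range_subtype])

end CfsgLib.CoreEmbedded
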