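import Cfsg.Agent.Lib.CoreEmbedded.Basic

/-!
# The core of a strongly embedded subgroup with `2`-group involution centralizers modulo it

If `H` is strongly embedded, `W` is a normal subgroup of odd order of `H` containing all elements
of odd order of the involution centralizers, then `W` lies in the core of `G`.

Class sums and the principal block show that a product of two elements with involution `2`-part,
outside `H`, never lies in a coset of `W` in `H` of `2`-power order; counting these elements in the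
cosets of `H` then shows that their set is invariant under multiplication by `W`.
-/

set_option autoImplicit false
set_option linter.unusedSectionVars false

open scoped ComplexConjugate

namespace CfsgLib.CoreEmbedded

universe u

variable {G : Type u} [Group G]

/-- The standing hypothesis. -/
structure Hyp (H W : Subgroup G) : Prop where
  se : Cfsg.IsStronglyEmbedded H
  le : W ≤ H
  norm : H ≤ Subgroup.normalizer (W : Set G)
  odd : Odd (Nat.card W)
  cent : ∀ t ∈ H, orderOf t = 2 → ∀ c, Commute c t → Odd (orderOf c) → c ∈ W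

variable [Fintype G]

/-- The involutions. -/
noncomputable def invs (G : Type*) [Group G] [Fintype G] : Finset G :=
  open _root_.Classical in Finset.univ.filter fun s => orderOf s = 2

/-- The elements with involution `2`-part. -/
noncomputable def nears (G : Type*) [Group G] [Fintype G] : Finset G :=
  open _root_.Classical in Finset.univ.filter fun y => Near y

theorem mem_invs {s : G} : s ∈ invs G ↔ orderOf s = 2 := by simp [invs]

theorem mem_nears {y : G} : y ∈ nears G ↔ Near y := by simp [nears]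

theorem inv_invs : Inv (invs G) := fun a ha g => by
  rw [mem_invs] at ha ⊢; rwa [Invol.orderOf_conj]

theorem inv_nears : Inv (nears G) := fun a ha g => by
  rw [mem_nears] at ha ⊢; exact near_conj ha g

/-- The elements of odd order centralizing an element. -/
noncomputable def oddCent (s : G) : Finset G :=
  open _root_.Classical in Finset.univ.filter fun c => Commute c s ∧ Odd (orderOf c)

theorem mem_oddCent {s c : G} : c ∈ oddCent s ↔ Commute c s ∧ Odd (orderOf c) := by
  simp [oddCent]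

theorem sum_nears {R : Type*} [AddCommMonoid R] (F : G → R) :
    ∑ y ∈ nears G, F y = ∑ s ∈ invs G, ∑ c ∈ oddCent s, F (s * c) := by
  classical
  rw [Finset.sum_sigma']
  refine (Finset.sum_bij (fun p _ => p.1 * p.2) ?_ ?_ ?_ ?_).symm
  · rintro ⟨s, c⟩ hp
    simp only [Finset.mem_sigma, mem_invs, mem_oddCent] at hp
    exact mem_nears.2 ⟨s, c, hp.1, hp.2.1, hp.2.2, rfl⟩
  · rintro ⟨s, c⟩ hp ⟨s', c'⟩ hp' e
    simp only [Finset.mem_sigma, mem_invs, mem_oddCent] at hp hp'
    dsimp only at e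
    have h1 := pow_oddPart_mul hp.1 hp.2.1 hp.2.2
    have h2 := pow_oddPart_mul hp'.1 hp'.2.1 hp'.2.2
    rw [e, h2] at h1
    subst h1
    rw [mul_left_cancel e]
  · intro y hy
    obtain ⟨s, c, hs, hsc, hc, rfl⟩ := mem_nears.1 hy
    exact ⟨⟨s, c⟩, by simp only [Finset.mem_sigma, mem_invs, mem_oddCent]; exact ⟨hs, hsc, hc⟩, rfl⟩
  · intros; rfl

namespace Hyp

variable {H W : Subgroup G} (h : Hyp H W)
include h

theorem conj_mem {x w : G} (hx : x ∈ H) (hw : w ∈ W) : x * w * x⁻¹ ∈ W :=
  (Subgroup.mem_normalizer_iff.1 (h.norm hx) w).1 hw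

theorem conj_mem' {x w : G} (hx : x ∈ H) (hw : w ∈ W) : x⁻¹ * w * x ∈ W := by
  simpa using h.conj_mem (H.inv_mem hx) hw

theorem cent_le {t : G} (htH : t ∈ H) (ht : orderOf t = 2) :
    Subgroup.centralizer ({t} : Set G) ≤ H := by
  intro g hg
  rw [← SEmb.smul_one_eq_iff (H := H)]
  exact SEmb.fix_of_commute h.se ht ((SEmb.smul_one_eq_iff t).2 htH)
    (Subgroup.mem_centralizer_singleton_iff.1 hg)

theorem odd_orderOf {w : G} (hw : w ∈ W) : Odd (orderOf w) := by
  have := orderOf_dvd_natCard (⟨w, hw⟩ : W)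
  rw [Subgroup.orderOf_mk] at this
  exact Odd.of_dvd_nat h.odd this

theorem pow_card_W {w : G} (hw : w ∈ W) : w ^ Nat.card W = 1 :=
  orderOf_dvd_iff_pow_eq_one.1 (Subgroup.orderOf_mk w hw ▸ orderOf_dvd_natCard (⟨w, hw⟩ : W))

/-- A nontrivial `2`-element of `H` has an involution among its powers. -/
theorem exists_invol_pow {z : G} (hz : z ∈ H) {k : ℕ} (hk : orderOf z = 2 ^ (k + 1)) :
    z ^ 2 ^ k ∈ H ∧ orderOf (z ^ 2 ^ k) = 2 :=
  ⟨H.pow_mem hz _, by
    rw [orderOf_pow_of_dvd (pow_ne_zero _ two_ne_zero) ⟨2, by rw [hk, pow_succ]⟩, hk, pow_succ,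
      Nat.mul_div_cancel_left _ (pow_pos two_pos _)]⟩

theorem cent_two_le {z : G} (hz : z ∈ H) {k : ℕ} (hk : orderOf z = 2 ^ (k + 1)) :
    Subgroup.centralizer ({z} : Set G) ≤ H := fun g hg =>
  h.cent_le (h.exists_invol_pow hz hk).1 (h.exists_invol_pow hz hk).2
    (Subgroup.mem_centralizer_singleton_iff.2
      ((Commute.pow_right (Subgroup.mem_centralizer_singleton_iff.1 hg) _).eq))

/-- The normal `2`-complement of the centralizer of a `2`-element of `H`. -/
abbrev D (W : Subgroup G) (z : G) : Subgroup (Subgroup.centralizer ({z} : Set G)) :=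
  W.subgroupOf _

theorem D_normal {z : G} (hz : z ∈ H) {k : ℕ} (hk : orderOf z = 2 ^ (k + 1)) :
    (D W z).Normal :=
  ⟨fun c hc x => Subgroup.mem_subgroupOf.2 (h.conj_mem (h.cent_two_le hz hk x.2)
    (Subgroup.mem_subgroupOf.1 hc))⟩

theorem D_not_dvd (z : G) : ¬ 2 ∣ Nat.card (D W z) := by
  have hd : Nat.card (D W z) ∣ Nat.card W :=
    Subgroup.card_dvd_of_injective
      (f := ((Subgroup.centralizer ({z} : Set G)).subtype.comp (D W z).subtype).codRestrict W
        fun c => Subgroup.mem_subgroupOf.1 c.2)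
      (fun a b e => Subtype.ext (Subtype.ext (congrArg Subtype.val e :)))
  exact fun h2 => Nat.not_even_iff_odd.2 h.odd (even_iff_two_dvd.2 (h2.trans hd))

theorem D_index {z : G} (hz : z ∈ H) {k : ℕ} (hk : orderOf z = 2 ^ (k + 1)) :
    ∃ a : ℕ, (D W z).index = 2 ^ a := by
  have := h.D_normal hz hk
  have : Fact (Nat.Prime 2) := ⟨Nat.prime_two⟩
  have hp : IsPGroup 2 (Subgroup.centralizer ({z} : Set G) ⧸ D W z) := by
    intro x
    obtain ⟨c, rfl⟩ := QuotientGroup.mk_surjective x
    refine ⟨(orderOf c).factorization 2, ?_⟩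
    rw [← QuotientGroup.mk_pow, QuotientGroup.eq_one_iff, Subgroup.mem_subgroupOf]
    refine h.cent _ (h.exists_invol_pow hz hk).1 (h.exists_invol_pow hz hk).2 _ ?_ ?_
    · exact Commute.pow_right (show Commute
        ((c ^ 2 ^ (orderOf c).factorization 2 : Subgroup.centralizer ({z} : Set G)) : G) z from
        Subgroup.mem_centralizer_singleton_iff.1
          (c ^ 2 ^ (orderOf c).factorization 2 : Subgroup.centralizer ({z} : Set G)).2) _
    · rw [Subgroup.orderOf_coe, orderOf_pow_of_dvd (pow_ne_zero _ two_ne_zero)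
        (Nat.ordProj_dvd _ _), ← Nat.not_even_iff_odd, even_iff_two_dvd]
      exact Nat.not_dvd_ordCompl Nat.prime_two (orderOf_pos c).ne'
  obtain ⟨a, ha⟩ := IsPGroup.iff_card.1 hp
  exact ⟨a, ha⟩

/-- A character sum over the coset `z W`. -/
theorem sum_coset [DecidableEq G] [Fintype W] {M : Ideal Cfsg.AlgInt} (hM : Cfsg.IsPModular 2 M)
    {z : G} (hz : z ∈ H) {k : ℕ} (hk : orderOf z = 2 ^ (k + 1)) (χ : Cfsg.IrrCharacter G)
    (hχ : χ ∉ Invol.BlockCol.pBlock M G) : ∑ w : W, (χ : G → ℂ) (z * (w : G)) = 0 := by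
  classical
  have : Fact (Nat.Prime 2) := ⟨Nat.prime_two⟩
  have := h.D_normal hz hk
  obtain ⟨a, ha⟩ := h.D_index hz hk
  have hS := Invol.SectionAverage.sum_section_coset hM ⟨k + 1, hk⟩ (D W z) (h.D_not_dvd z) ha χ
  rw [if_neg hχ] at hS
  set f : W × D W z → W := fun p =>
    ⟨z⁻¹ * ((p.1 : G) * (z * ((p.2 : Subgroup.centralizer ({z} : Set G)) : G)) * (p.1 : G)⁻¹), by
      have e : z⁻¹ * ((p.1 : G) * (z * ((p.2 : Subgroup.centralizer ({z} : Set G)) : G)) *
          (p.1 : G)⁻¹) = (z⁻¹ * (p.1 : G) * z) * ((p.2 : Subgroup.centralizer ({z} : Set G)) : G) *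
            (p.1 : G)⁻¹ := by group
      rw [e]
      exact W.mul_mem (W.mul_mem (h.conj_mem' hz p.1.2) (Subgroup.mem_subgroupOf.1 p.2.2))
        (W.inv_mem p.1.2)⟩ with hf
  -- two preimages differ by an element of `D`
  have hfib : ∀ p q : W × D W z, f p = f q → (p.1 : G)⁻¹ * q.1 ∈
      Subgroup.centralizer ({z} : Set G) := by
    intro p q e
    rw [hf, Subtype.mk.injEq, mul_right_inj] at e
    obtain ⟨⟨v, hv⟩, ⟨⟨d, hdC⟩, hd⟩⟩ := p
    obtain ⟨⟨v', hv'⟩, ⟨⟨d', hdC'⟩, hd'⟩⟩ := q
    dsimp only at e ⊢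
    have hzc : ∀ x : G, x ∈ Subgroup.centralizer ({z} : Set G) → Commute x z := fun x hx =>
      Subgroup.mem_centralizer_singleton_iff.1 hx
    have hpw : ∀ x : G, x ∈ W → x ∈ Subgroup.centralizer ({z} : Set G) →
        (z * x) ^ Nat.card W = z ^ Nat.card W := fun x hxW hx => by
      rw [(hzc x hx).symm.mul_pow, h.pow_card_W hxW, mul_one]
    have e1 : v⁻¹ * v' * (z * d') * (v⁻¹ * v')⁻¹ = z * d := by
      have := congrArg (fun x => v⁻¹ * x * v) e.symm
      calc v⁻¹ * v' * (z * d') * (v⁻¹ * v')⁻¹ = v⁻¹ * (v' * (z * d') * v'⁻¹) * v := by group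
        _ = v⁻¹ * (v * (z * d) * v⁻¹) * v := this
        _ = z * d := by group
    have e2 := congrArg (fun x : G => x ^ Nat.card W) e1
    simp only [conj_pow, hpw d (Subgroup.mem_subgroupOf.1 hd) hdC,
      hpw d' (Subgroup.mem_subgroupOf.1 hd') hdC'] at e2
    obtain ⟨j, hj⟩ := exists_pow_eq_self_of_coprime (x := z) (n := Nat.card W) (by
      rw [hk]; exact (Nat.coprime_two_right.2 h.odd).pow_right _)
    refine Subgroup.mem_centralizer_singleton_iff.2 ?_
    have hc : Commute (v⁻¹ * v') (z ^ Nat.card W) := mul_inv_eq_iff_eq_mul.1 e2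
    have := hc.pow_right j
    rwa [hj] at this
  have hcardfib : ∀ p₀ : W × D W z,
      (Finset.univ.filter fun p => f p = f p₀).card = Fintype.card (D W z) := by
    intro p₀
    rw [← Finset.card_univ (α := D W z)]
    refine (Finset.card_bij (fun (c : D W z) _ => ((p₀.1 * ⟨((c : Subgroup.centralizer ({z} : Set G)) : G),
      Subgroup.mem_subgroupOf.1 c.2⟩ : W), c⁻¹ * p₀.2 * c)) ?_ ?_ ?_).symm
    · intro c _
      simp only [Finset.mem_filter, Finset.mem_univ, true_and, hf, Subtype.mk.injEq,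
        mul_right_inj, Subgroup.coe_mul, Subgroup.coe_inv]
      set cc : G := ((c : Subgroup.centralizer ({z} : Set G)) : G)
      have hcz : Commute cc z := Subgroup.mem_centralizer_singleton_iff.1
        ((c : Subgroup.centralizer ({z} : Set G))).2
      calc _ = (p₀.1 : G) * (cc * z * cc⁻¹) *
            ((p₀.2 : Subgroup.centralizer ({z} : Set G)) : G) * (p₀.1 : G)⁻¹ := by group
        _ = _ := by rw [hcz.eq, mul_inv_cancel_right]; group
    · intro a _ b _ e
      exact Subtype.ext (Subtype.ext (congrArg Subtype.val (mul_left_cancel (congrArg Prod.fst e)) :))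
    · intro q hq
      simp only [Finset.mem_filter, Finset.mem_univ, true_and] at hq
      have hv := hfib p₀ q hq.symm
      refine ⟨⟨⟨_, hv⟩, Subgroup.mem_subgroupOf.2 (W.mul_mem (W.inv_mem p₀.1.2) q.1.2)⟩,
        Finset.mem_univ _, ?_⟩
      refine Prod.ext (Subtype.ext (by simp)) (Subtype.ext (Subtype.ext ?_))
      rw [hf, Subtype.mk.injEq, mul_right_inj] at hq
      simp only [Subgroup.coe_mul, Subgroup.coe_inv]
      have hcz : Commute ((p₀.1 : G)⁻¹ * q.1) z := Subgroup.mem_centralizer_singleton_iff.1 hv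
      have e2 : ((p₀.1 : G)⁻¹ * q.1) * (z * ((q.2 : Subgroup.centralizer ({z} : Set G)) : G)) *
          ((p₀.1 : G)⁻¹ * q.1)⁻¹ = z * ((p₀.2 : Subgroup.centralizer ({z} : Set G)) : G) := by
        calc _ = (p₀.1 : G)⁻¹ * ((q.1 : G) * (z * ((q.2 : Subgroup.centralizer ({z} : Set G)) : G)) *
              (q.1 : G)⁻¹) * (p₀.1 : G) := by group
          _ = _ := by rw [hq]; group
      rw [← mul_assoc, hcz.eq, mul_assoc z, mul_assoc z, mul_right_inj] at e2
      rw [← e2]; group
  have hbij : ∀ w : W, (Finset.univ.filter fun p => f p = w).card = Fintype.card (D W z) := by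
    intro w
    by_cases hw : w ∈ Finset.univ.image f
    · obtain ⟨p₀, -, rfl⟩ := Finset.mem_image.1 hw
      exact hcardfib p₀
    · exfalso
      have h1 : Fintype.card (W × D W z) = (Finset.univ.image f).card * Fintype.card (D W z) := by
        rw [← Finset.card_univ, Finset.card_eq_sum_card_image f, Finset.sum_congr rfl
          (g := fun _ => Fintype.card (D W z)) fun w' hw' => by
            obtain ⟨p₀, -, rfl⟩ := Finset.mem_image.1 hw'
            exact hcardfib p₀, Finset.sum_const, smul_eq_mul]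
      rw [Fintype.card_prod] at h1
      refine hw (Finset.eq_univ_of_card _ (Nat.eq_of_mul_eq_mul_right Fintype.card_pos h1.symm) ▸
        Finset.mem_univ w)
  have hclass : ∀ p : W × D W z, (χ : G → ℂ) (z * ((f p : W) : G)) =
      (χ : G → ℂ) (z * ((p.2 : Subgroup.centralizer ({z} : Set G)) : G)) := by
    intro p
    simp only [hf, mul_inv_cancel_left]
    exact CfsgLib.Char.IsIrrCharacter.isClassFunction χ.2 _ _
  have hsum := Finset.sum_fiberwise_of_maps_to (s := (Finset.univ : Finset (W × D W z)))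
    (t := Finset.univ) (g := f) (fun _ _ => Finset.mem_univ _)
    (fun p => (χ : G → ℂ) (z * ((f p : W) : G)))
  have e1 : ∀ w : W, ∑ p ∈ Finset.univ.filter (fun p => f p = w), (χ : G → ℂ) (z * ((f p : W) : G)) =
      (Fintype.card (D W z) : ℂ) * (χ : G → ℂ) (z * (w : G)) := fun w => by
    rw [Finset.sum_congr rfl (g := fun _ => (χ : G → ℂ) (z * (w : G))) fun p hp => by
      rw [(Finset.mem_filter.1 hp).2], Finset.sum_const, nsmul_eq_mul, hbij]
  rw [Finset.sum_congr rfl fun w _ => e1 w,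
    ← Finset.mul_sum, Finset.sum_congr rfl fun p _ => hclass p, Fintype.sum_prod_type,
    Finset.sum_congr rfl (g := fun _ => (0 : ℂ)) (fun w _ => hS), Finset.sum_const_zero] at hsum
  exact (mul_eq_zero.1 hsum).resolve_left (Nat.cast_ne_zero.2 Fintype.card_ne_zero)

theorem isConj_of_invol {s t : G} (hs : orderOf s = 2) (ht : orderOf t = 2) : IsConj t s :=
  SEmb.isConj_invol h.se ht hs

theorem sum_oddCent {R : Type*} [AddCommMonoid R] {s t g : G} (hg : g * t * g⁻¹ = s) (F : G → R) :
    ∑ c ∈ oddCent s, F c = ∑ c ∈ oddCent t, F (g * c * g⁻¹) := by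
  subst hg
  refine (Finset.sum_bij (fun c _ => g * c * g⁻¹) ?_ ?_ ?_ ?_).symm
  · intro c hc
    rw [mem_oddCent] at hc ⊢
    refine ⟨?_, by rw [Invol.orderOf_conj]; exact hc.2⟩
    show g * c * g⁻¹ * (g * t * g⁻¹) = g * t * g⁻¹ * (g * c * g⁻¹)
    calc g * c * g⁻¹ * (g * t * g⁻¹) = g * (c * t) * g⁻¹ := by group
      _ = g * (t * c) * g⁻¹ := by rw [hc.1.eq]
      _ = _ := by group
  · intro a _ b _ e; simpa using e
  · intro b hb
    refine ⟨g⁻¹ * b * g, ?_, by group⟩
    rw [mem_oddCent] at hb ⊢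
    refine ⟨?_, by
      have := Invol.orderOf_conj g⁻¹ b
      rw [inv_inv] at this
      rw [this]; exact hb.2⟩
    show g⁻¹ * b * g * t = t * (g⁻¹ * b * g)
    calc g⁻¹ * b * g * t = g⁻¹ * (b * (g * t * g⁻¹)) * g := by group
      _ = g⁻¹ * (g * t * g⁻¹ * b) * g := by rw [hb.1.eq]
      _ = _ := by group
  · intros; rfl

theorem card_oddCent {s t : G} (hs : orderOf s = 2) (ht : orderOf t = 2) :
    (oddCent s).card = (oddCent t).card := by
  obtain ⟨g, hg⟩ := isConj_iff.1 (h.isConj_of_invol hs ht)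
  simpa using h.sum_oddCent hg (fun _ => (1 : ℕ))

/-- In the principal block the sum over the elements with involution part is a multiple of the sum
over the involutions. -/
theorem sum_nears_char {M : Ideal Cfsg.AlgInt} (hM : Cfsg.IsPModular 2 M) {t : G} (htH : t ∈ H)
    (ht : orderOf t = 2) {χ : Cfsg.IrrCharacter G} (hχ : χ ∈ Invol.BlockCol.pBlock M G) :
    ∑ y ∈ nears G, (χ : G → ℂ) y =
      ((oddCent t).card : ℂ) * ∑ s ∈ invs G, (χ : G → ℂ) s := by
  classical
  have : Fact (Nat.Prime 2) := ⟨Nat.prime_two⟩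
  have hcl := CfsgLib.Char.IsIrrCharacter.isClassFunction χ.2
  have hk : orderOf t = 2 ^ (0 + 1) := by rw [ht, zero_add, pow_one]
  have := h.D_normal htH hk
  obtain ⟨a, ha⟩ := h.D_index htH hk
  have hS := Invol.SectionAverage.sum_section_coset hM ⟨0 + 1, hk⟩ (D W t) (h.D_not_dvd t) ha χ
  rw [if_pos hχ] at hS
  have hD : ∑ c ∈ oddCent t, (χ : G → ℂ) (t * c) = ((oddCent t).card : ℂ) * (χ : G → ℂ) t := by
    have e : ∀ F : G → ℂ, ∑ c ∈ oddCent t, F c =
        ∑ n : D W t, F ((n : Subgroup.centralizer ({t} : Set G)) : G) := by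
      intro F
      refine Finset.sum_bij' (fun c hc => ⟨⟨c, Subgroup.mem_centralizer_singleton_iff.2
        (mem_oddCent.1 hc).1⟩, Subgroup.mem_subgroupOf.2 (h.cent t htH ht c (mem_oddCent.1 hc).1
          (mem_oddCent.1 hc).2)⟩) (fun n _ => ((n : Subgroup.centralizer ({t} : Set G)) : G))
        (fun _ _ => Finset.mem_univ _) ?_ (fun _ _ => rfl) (fun _ _ => rfl) (fun _ _ => rfl)
      intro n _
      exact mem_oddCent.2 ⟨Subgroup.mem_centralizer_singleton_iff.1
        (n : Subgroup.centralizer ({t} : Set G)).2, h.odd_orderOf (Subgroup.mem_subgroupOf.1 n.2)⟩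
    have hc1 : ((oddCent t).card : ℂ) = (Nat.card (D W t) : ℂ) := by
      have := e fun _ => 1
      simpa [Nat.card_eq_fintype_card] using this
    rw [e, hS, hc1]
  rw [sum_nears, Finset.mul_sum]
  refine Finset.sum_congr rfl fun s hs => ?_
  obtain ⟨g, hg⟩ := isConj_iff.1 (h.isConj_of_invol (mem_invs.1 hs) ht)
  rw [h.sum_oddCent hg, ← hg, hcl t g, Finset.sum_congr rfl fun c _ => ?_, hD]
  rw [show g * t * g⁻¹ * (g * c * g⁻¹) = g * (t * c) * g⁻¹ by group]
  exact hcl _ g

end Hyp

end CfsgLib.CoreEmbedded
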