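import Cfsg.Agent.S4521
import Cfsg.Agent.Lib.Blk83.FrobeniusLocal
import Cfsg.Agent.Lib.Char.Complete
import Cfsg.Agent.Lib.Char.Linear
import Cfsg.Agent.Lib.Char.Twist
import Mathlib.GroupTheory.FiniteAbelian.Duality
import Mathlib.RingTheory.RootsOfUnity.AlgebraicallyClosed

/-!
# The principal block of a direct product with an abelian `p`-group
-/

set_option autoImplicit false
set_option linter.unusedSectionVars false
set_option linter.style.haveILetI false

open Cfsg
open scoped ComplexConjugate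

namespace CfsgLib.CoreEmbedded

universe u

variable {G : Type u} [Group G] [Finite G] {p : ℕ} [Fact p.Prime] {M : Ideal AlgInt}
  (U Z : Subgroup G) (hcomm : ∀ a ∈ U, ∀ z ∈ Z, a * z = z * a) (hsup : U ⊔ Z = ⊤)
  (hinf : U ⊓ Z = ⊥) (hZab : ∀ a ∈ Z, ∀ b ∈ Z, a * b = b * a) (hZp : IsPGroup p Z)

include hcomm hsup hinf in
theorem exists_split : ∃ (π : G →* U) (ρ : G →* Z), (∀ g, g = (π g : G) * (ρ g : G)) ∧
    (∀ a : U, π a = a ∧ ρ a = 1) ∧ ∀ z : Z, π z = 1 ∧ ρ z = z := by
  let Φ : U × Z →* G :=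
    MonoidHom.mk' (fun p => (p.1 : G) * (p.2 : G)) fun p q => by
      simp only [Prod.fst_mul, Prod.snd_mul, Subgroup.coe_mul]
      rw [mul_assoc, ← mul_assoc (q.1 : G), hcomm _ q.1.2 _ p.2.2]
      group
  have hinj : Function.Injective Φ := by
    refine (injective_iff_map_eq_one Φ).2 fun ⟨a, z⟩ h => ?_
    have h' : (a : G) * (z : G) = 1 := h
    have hm : (a : G) ∈ U ⊓ Z := ⟨a.2, by rw [eq_inv_of_mul_eq_one_left h']; exact Z.inv_mem z.2⟩
    rw [hinf, Subgroup.mem_bot] at hm
    rw [hm, one_mul] at h'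
    exact Prod.ext (Subtype.ext hm) (Subtype.ext h')
  have hsurj : Function.Surjective Φ := by
    rw [← MonoidHom.range_eq_top, eq_top_iff, ← hsup, sup_le_iff]
    exact ⟨fun a ha => ⟨(⟨a, ha⟩, 1), mul_one a⟩, fun z hz => ⟨(1, ⟨z, hz⟩), one_mul z⟩⟩
  let e := MulEquiv.ofBijective Φ ⟨hinj, hsurj⟩
  refine ⟨(MonoidHom.fst U Z).comp e.symm.toMonoidHom, (MonoidHom.snd U Z).comp e.symm.toMonoidHom,
    fun g => (e.apply_symm_apply g).symm, fun a => ?_, fun z => ?_⟩
  · have : e.symm (a : G) = (a, 1) := e.symm_apply_eq.2 (mul_one (a : G)).symm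
    exact ⟨congrArg Prod.fst this, congrArg Prod.snd this⟩
  · have : e.symm (z : G) = (1, z) := e.symm_apply_eq.2 (one_mul (z : G)).symm
    exact ⟨congrArg Prod.fst this, congrArg Prod.snd this⟩

include hcomm hsup hinf hZab hZp in
/-- The principal block of `U × Z`. -/
theorem principalBlock_split (hM : IsPModular p M) :
    Nat.card (principalBlock M G) = Nat.card Z * Nat.card (principalBlock M U) ∧
      blockRank p (principalBlock M G) = blockRank p (principalBlock M U) := by
  classical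
  cases nonempty_fintype G
  obtain ⟨π, ρ, hdec, hπ, hρ⟩ := exists_split U Z hcomm hsup hinf
  letI : CommGroup Z :=
    { (inferInstance : Group Z) with mul_comm := fun a b => Subtype.ext (hZab _ a.2 _ b.2) }
  have hπs : Function.Surjective π := fun a => ⟨a, (hπ a).1⟩
  let F : (Z →* ℂˣ) × IrrCharacter U → IrrCharacter G := fun q =>
    ⟨fun g => (q.1 (ρ g) : ℂ) * (q.2 : U → ℂ) (π g),
      CfsgLib.Char.IsIrrCharacter.linear_mul
        (CfsgLib.CharTwist.isIrrCharacter_comp q.2.2 π hπs) (q.1.comp ρ)⟩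
  have hFU : ∀ q (a : U), (F q : G → ℂ) a = (q.2 : U → ℂ) a := fun q a => by
    show (q.1 (ρ a) : ℂ) * (q.2 : U → ℂ) (π a) = _
    rw [(hπ a).1, (hπ a).2, map_one, Units.val_one, one_mul]
  have hFZ : ∀ q (z : Z), (F q : G → ℂ) z = (q.1 z : ℂ) * (q.2 : U → ℂ) 1 := fun q z => by
    show (q.1 (ρ z) : ℂ) * (q.2 : U → ℂ) (π z) = _
    rw [(hρ z).1, (hρ z).2]
  have hFinj : Function.Injective F := by
    intro q q' e
    have h2 : q.2 = q'.2 := Subtype.ext (funext fun a => by rw [← hFU q a, ← hFU q' a, e])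
    refine Prod.ext (MonoidHom.ext fun z => Units.ext ?_) h2
    have h1 := hFZ q z
    rw [e, hFZ q' z, h2] at h1
    exact (mul_right_cancel₀ (CfsgLib.Char.IsIrrCharacter.apply_one_ne_zero q'.2.2) h1).symm
  have hhom : Nat.card (Z →* ℂˣ) = Nat.card Z :=
    CommGroup.card_monoidHom_of_hasEnoughRootsOfUnity Z ℂ
  haveI : Finite (Z →* ℂˣ) := Nat.finite_of_card_ne_zero (by rw [hhom]; exact Nat.card_pos.ne')
  haveI : Fintype (Z →* ℂˣ) := Fintype.ofFinite _
  have hdeg : ∀ q, CfsgLib.Char.degree (F q : G → ℂ) = CfsgLib.Char.degree (q.2 : U → ℂ) := fun q => by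
    apply Nat.cast_injective (R := ℂ)
    rw [CfsgLib.Char.IsCharacter.degree_cast (CfsgLib.Char.IsIrrCharacter.isCharacter (F q).2),
      CfsgLib.Char.IsCharacter.degree_cast (CfsgLib.Char.IsIrrCharacter.isCharacter q.2.2)]
    simpa using hFU q 1
  have hFsurj : Function.Surjective F := by
    intro χ
    by_contra hno
    push Not at hno
    have h1 : ∑ ξ ∈ Finset.univ.image F, CfsgLib.Char.degree (ξ : G → ℂ) ^ 2 = Nat.card G := by
      rw [Finset.sum_image fun a _ b _ e => hFinj e, Fintype.sum_prod_type,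
        Finset.sum_congr rfl fun l _ => Finset.sum_congr rfl fun ψ _ => by rw [hdeg (l, ψ)],
        Finset.sum_congr rfl fun l _ => CfsgLib.Char.sum_degree_sq (G := U), Finset.sum_const, Finset.card_univ, smul_eq_mul,
        ← Nat.card_eq_fintype_card, hhom, mul_comm, ← Nat.card_prod]
      exact Nat.card_congr (Equiv.ofBijective (fun p : U × Z => (p.1 : G) * (p.2 : G))
        ⟨fun a b e => Prod.ext (by
          have := congrArg π e
          simpa [map_mul, (hπ a.1).1, (hπ b.1).1, (hρ a.2).1, (hρ b.2).1] using this) (by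
          have := congrArg ρ e
          simpa [map_mul, (hπ a.1).2, (hπ b.1).2, (hρ a.2).2, (hρ b.2).2] using this),
        fun g => ⟨(π g, ρ g), (hdec g).symm⟩⟩)
    have h2 := CfsgLib.Char.sum_degree_sq (G := G)
    have h3 : χ ∉ Finset.univ.image F := by
      simp only [Finset.mem_image, Finset.mem_univ, true_and, not_exists]
      exact fun q => hno q
    have h4 := Finset.sum_le_sum_of_subset (f := fun ξ : IrrCharacter G =>
      CfsgLib.Char.degree (ξ : G → ℂ) ^ 2) (Finset.subset_univ (insert χ (Finset.univ.image F)))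
    rw [Finset.sum_insert h3, h1, h2] at h4
    have := CfsgLib.Char.IsIrrCharacter.degree_pos χ.2
    nlinarith
  have hmem : ∀ q, F q ∈ principalBlock M G ↔ q.2 ∈ principalBlock M U := by
    intro q
    haveI : Fintype U := Fintype.ofFinite _
    haveI : Fintype Z := Fintype.ofFinite _
    have hirr : IsIrrCharacter Z (fun z => (q.1 z : ℂ)) := CfsgLib.Char.isIrrCharacter_monoidHom q.1
    rw [Cfsg.Agent.S4521.result p M hM U Z hcomm hsup (hinf ▸ IsPGroup.of_bot) (F q) q.2
      ⟨_, hirr⟩ ?_ ?_]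
    · exact and_iff_left (CfsgLib.Blk83.mem_principalBlock_of_isPGroup hM hZp _)
    · simp only [hFU]
      rw [CfsgLib.Char.classInner_irr_self q.2.2]
      exact one_ne_zero
    · simp only [hFZ]
      have e : classInner (fun z : Z => (q.1 z : ℂ) * (q.2 : U → ℂ) 1) (fun z => (q.1 z : ℂ)) =
          (q.2 : U → ℂ) 1 * classInner (fun z : Z => (q.1 z : ℂ)) (fun z => (q.1 z : ℂ)) := by
        simp only [classInner, Finset.mul_sum]
        exact Finset.sum_congr rfl fun z _ => by ring
      rw [e, CfsgLib.Char.classInner_irr_self hirr, mul_one]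
      exact CfsgLib.Char.IsIrrCharacter.apply_one_ne_zero q.2.2
  constructor
  · rw [← hhom, ← Nat.card_prod]
    refine (Nat.card_eq_of_bijective (fun q : (Z →* ℂˣ) × (principalBlock M U) =>
      (⟨F (q.1, q.2.1), (hmem _).2 q.2.2⟩ : principalBlock M G)) ⟨fun a b e => ?_, ?_⟩).symm
    · obtain ⟨h1, h2⟩ := Prod.ext_iff.1 (hFinj (congrArg Subtype.val e))
      exact Prod.ext h1 (Subtype.ext h2)
    · rintro ⟨χ, hχ⟩
      obtain ⟨q, rfl⟩ := hFsurj χ
      exact ⟨(q.1, ⟨q.2, (hmem q).1 hχ⟩), rfl⟩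
  · have hp : p.Prime := Fact.out
    have hregU : ∀ a : U, IsPRegular p (a : G) ↔ IsPRegular p a := fun a => by
      rw [IsPRegular, IsPRegular, Subgroup.orderOf_coe]
    have hreg : ∀ g : G, IsPRegular p g → ρ g = 1 ∧ IsPRegular p (π g) := by
      intro g hg
      refine ⟨?_, fun h => hg (h.trans (orderOf_map_dvd π g))⟩
      obtain ⟨k, hk⟩ := (IsPGroup.iff_orderOf.1 hZp) (ρ g)
      rcases k with - | k
      · exact orderOf_eq_one_iff.1 (by rw [hk, pow_zero])
      · exact absurd ((dvd_pow_self p (Nat.succ_ne_zero k)).trans (hk ▸ orderOf_map_dvd ρ g)) hg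
    let R : (G → ℂ) →ₗ[ℂ] (U → ℂ) := LinearMap.funLeft ℂ ℂ (fun a : U => (a : G))
    let L : (U → ℂ) →ₗ[ℂ] (G → ℂ) :=
      { toFun := fun f g => if IsPRegular p g then f (π g) else 0
        map_add' := fun a b => by funext g; by_cases h : IsPRegular p g <;> simp [h]
        map_smul' := fun c a => by funext g; by_cases h : IsPRegular p g <;> simp [h] }
    have hR : ∀ q, R (pRegularPart p (F q : G → ℂ)) = pRegularPart p (q.2 : U → ℂ) := fun q => by
      funext a
      show pRegularPart p (F q : G → ℂ) (a : G) = _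
      simp only [pRegularPart, hFU]
      exact if_congr (hregU a) rfl rfl
    have hL : ∀ q, L (pRegularPart p (q.2 : U → ℂ)) = pRegularPart p (F q : G → ℂ) := fun q => by
      funext g
      show (if IsPRegular p g then pRegularPart p (q.2 : U → ℂ) (π g) else 0) =
        if IsPRegular p g then (F q : G → ℂ) g else 0
      split_ifs with hg
      · show (if IsPRegular p (π g) then (q.2 : U → ℂ) (π g) else 0) = (q.1 (ρ g) : ℂ) * _
        rw [if_pos (hreg g hg).2, (hreg g hg).1, map_one, Units.val_one, one_mul]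
      · rfl
    refine le_antisymm ?_ ?_
    · refine le_trans (Submodule.finrank_mono ?_) (Submodule.finrank_map_le L _)
      rw [Submodule.span_le]
      rintro _ ⟨χ, hχ, rfl⟩
      obtain ⟨q, rfl⟩ := hFsurj χ
      exact ⟨_, Submodule.subset_span ⟨q.2, (hmem q).1 hχ, rfl⟩, hL q⟩
    · refine le_trans (Submodule.finrank_mono ?_) (Submodule.finrank_map_le R _)
      rw [Submodule.span_le]
      rintro _ ⟨ψ, hψ, rfl⟩
      exact ⟨_, Submodule.subset_span ⟨F (1, ψ), (hmem _).2 hψ, rfl⟩, hR (1, ψ)⟩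

end CfsgLib.CoreEmbedded
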