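import Cfsg.Agent.Lib.CoreEmbedded.Free
import Cfsg.Agent.Lib.CoreEmbedded.ProductSplit
import Cfsg.Agent.Lib.Transfer.AbelianSylow

/-!
# Abelian Sylow `2`-subgroups with inertial quotient of prime order
-/

set_option autoImplicit false
set_option linter.unusedSectionVars false
set_option linter.style.haveILetI false
set_option maxHeartbeats 1000000

open Cfsg CfsgLib.Blocks
open scoped commutatorElement

namespace CfsgLib.CoreEmbedded

universe u

variable {G : Type u} [Group G] [Finite G] (P : Sylow 2 G)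
  (hab : ∀ x ∈ (P : Subgroup G), ∀ y ∈ (P : Subgroup G), x * y = y * x)
  (he : ((Subgroup.centralizer ((P : Subgroup G) : Set G)).relIndex
    (Subgroup.normalizer ((P : Subgroup G) : Set G))).Prime)

/-- The part of the Sylow subgroup fixed by the normalizer. -/
abbrev fixedPart : Subgroup G :=
  (P : Subgroup G) ⊓ Subgroup.centralizer (Subgroup.normalizer ((P : Subgroup G) : Set G) : Set G)

include hab he in
/-- The transfer splitting: a normal subgroup whose Sylow subgroup carries a free action. -/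
theorem exists_free_part : ∃ (N₁ : Subgroup G) (P₁ : Sylow 2 N₁), N₁.Normal ∧
    (∀ x ∈ (P₁ : Subgroup N₁), ∀ y ∈ (P₁ : Subgroup N₁), x * y = y * x) ∧
    (∀ n ∈ Subgroup.normalizer ((P₁ : Subgroup N₁) : Set N₁), ∀ x ∈ (P₁ : Subgroup N₁), x ≠ 1 →
      n * x * n⁻¹ = x → n ∈ Subgroup.centralizer ((P₁ : Subgroup N₁) : Set N₁)) ∧
    (Subgroup.centralizer ((P₁ : Subgroup N₁) : Set N₁)).relIndex
      (Subgroup.normalizer ((P₁ : Subgroup N₁) : Set N₁)) =
      (Subgroup.centralizer ((P : Subgroup G) : Set G)).relIndex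
        (Subgroup.normalizer ((P : Subgroup G) : Set G)) ∧
    IsPGroup 2 (G ⧸ N₁.normalCore) ∧
    N₁ ⊔ fixedPart P = ⊤ ∧ N₁ ⊓ fixedPart P = ⊥ ∧
    Nat.card P = Nat.card (fixedPart P) * Nat.card P₁ := by
  classical
  have : Fact (Nat.Prime 2) := ⟨Nat.prime_two⟩
  have hcommP : IsMulCommutative (P : Subgroup G) := ⟨⟨fun a b => Subtype.ext (hab _ a.2 _ b.2)⟩⟩
  set Nz := Subgroup.normalizer ((P : Subgroup G) : Set G) with hNz
  set C := Subgroup.centralizer ((P : Subgroup G) : Set G) with hC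
  set Z := fixedPart P with hZ
  set F := (P : Subgroup G).focalSubgroup with hF
  set N₁ := (P : Subgroup G).transferFocal.ker with hN₁
  haveI : N₁.Normal := MonoidHom.normal_ker _
  have hcop := Transfer.coprime_card_quotient_focal (Transfer.coprime_card_index_sylow P)
  have hN₁P : N₁ ⊓ (P : Subgroup G) = F := Transfer.ker_transferFocal_inf_of_coprime hcop
  have hFsup : F ⊔ Z = (P : Subgroup G) := by
    rw [hF, Transfer.abelian_sylow_focal_eq P hcommP]
    exact Transfer.abelian_sylow_sup P hcommP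
  have hFP : F ≤ (P : Subgroup G) := hN₁P ▸ inf_le_right
  have hFN₁ : F ≤ N₁ := hN₁P ▸ inf_le_left
  have htop : N₁ ⊔ (P : Subgroup G) = ⊤ := by
    refine eq_top_iff.2 fun g _ => ?_
    obtain ⟨y, hy⟩ := (powCoprime hcop.symm).surjective ((P : Subgroup G).transferFocal g)
    obtain ⟨x, rfl⟩ := QuotientGroup.mk'_surjective _ y
    have h1 : g * (x : G)⁻¹ ∈ N₁ := by
      rw [hN₁, MonoidHom.mem_ker, map_mul, map_inv, (P : Subgroup G).transferFocal_eq_pow x, ← hy]
      exact mul_inv_cancel _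
    have := Subgroup.mul_mem_sup h1 x.2
    rwa [inv_mul_cancel_right] at this
  have hsup : N₁ ⊔ Z = ⊤ := by
    rw [← htop, ← hFsup, ← sup_assoc, sup_eq_left.2 hFN₁]
  have hinf : N₁ ⊓ Z = ⊥ := by
    refine (Subgroup.eq_bot_iff_forall _).2 fun z hz => ?_
    have hzF : z ∈ F := hN₁P ▸ ⟨hz.1, hz.2.1⟩
    exact Transfer.abelian_sylow_centralPart_inf_commutator P hcommP hz.2.1 hz.2.2
      ((P : Subgroup G).focalSubgroup_le_commutator hzF)
  -- cards
  have hcardP : Nat.card P = Nat.card Z * Nat.card F := by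
    rw [← Nat.card_prod]
    refine (Nat.card_eq_of_bijective (fun q : Z × F => (⟨(q.1 : G) * (q.2 : G),
      Subgroup.mul_mem _ q.1.2.1 (hFP q.2.2)⟩ : (P : Subgroup G))) ⟨fun a b e => ?_, fun x => ?_⟩).symm
    · have e' : (a.1 : G) * a.2 = b.1 * b.2 := congrArg Subtype.val e
      have h1 : (b.1 : G)⁻¹ * a.1 = b.2 * (a.2 : G)⁻¹ := by
        rw [inv_mul_eq_iff_eq_mul, ← mul_assoc, ← e', mul_inv_cancel_right]
      have h2 : (b.1 : G)⁻¹ * a.1 ∈ N₁ ⊓ Z :=
        ⟨hFN₁ (h1 ▸ F.mul_mem b.2.2 (F.inv_mem a.2.2)), Z.mul_mem (Z.inv_mem b.1.2) a.1.2⟩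
      rw [hinf, Subgroup.mem_bot, inv_mul_eq_one] at h2
      rw [h2] at e'
      exact Prod.ext (Subtype.ext h2.symm) (Subtype.ext (mul_left_cancel e'))
    · have hx : (x : G) ∈ Z ⊔ F := by rw [sup_comm, hFsup]; exact x.2
      rw [← SetLike.mem_coe, Subgroup.coe_mul_of_left_le_normalizer_right _ _
        (le_trans (show Z ≤ Subgroup.centralizer (F : Set G) from fun z hz =>
          Subgroup.mem_centralizer_iff.2 fun y hy => hab y (hFP hy) z hz.1)
          (Subgroup.centralizer_le_normalizer _))] at hx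
      obtain ⟨a, ha, b, hb, hab'⟩ := hx
      exact ⟨(⟨a, ha⟩, ⟨b, hb⟩), Subtype.ext hab'⟩
  -- the Sylow subgroup of `N₁`
  have hFidx : ¬ 2 ∣ (F.subgroupOf N₁).index := by
    have h1 : N₁.index * Nat.card N₁ = Nat.card G := N₁.index_mul_card
    have h2 : (P : Subgroup G).index * Nat.card P = Nat.card G := (P : Subgroup G).index_mul_card
    have h3 : (F.subgroupOf N₁).index * Nat.card F = Nat.card N₁ := by
      rw [← Nat.card_congr (Subgroup.subgroupOfEquivOfLe hFN₁).toEquiv, Subgroup.index_mul_card]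
    have h4 : Nat.card N₁ * Nat.card Z = Nat.card G := by
      rw [← Nat.card_prod]
      refine Nat.card_eq_of_bijective (fun q : N₁ × Z => (q.1 : G) * (q.2 : G))
        ⟨fun a b e => ?_, fun g => ?_⟩
      · dsimp only at e
        have h5 : (b.1 : G)⁻¹ * a.1 = b.2 * (a.2 : G)⁻¹ := by
          rw [inv_mul_eq_iff_eq_mul, ← mul_assoc, ← e, mul_inv_cancel_right]
        have h6 : (b.1 : G)⁻¹ * a.1 ∈ N₁ ⊓ Z :=
          ⟨N₁.mul_mem (N₁.inv_mem b.1.2) a.1.2, h5 ▸ Z.mul_mem b.2.2 (Z.inv_mem a.2.2)⟩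
        rw [hinf, Subgroup.mem_bot, inv_mul_eq_one] at h6
        rw [h6] at e
        exact Prod.ext (Subtype.ext h6.symm) (Subtype.ext (mul_left_cancel e))
      · obtain ⟨a, ha, b, hb, rfl⟩ := Subgroup.mem_sup_of_normal_left.1 (hsup ▸ Subgroup.mem_top g)
        exact ⟨(⟨a, ha⟩, ⟨b, hb⟩), rfl⟩
    have h7 : (F.subgroupOf N₁).index = (P : Subgroup G).index := by
      refine mul_right_cancel₀ (Nat.card_pos (α := P)).ne' ?_
      rw [h2, hcardP, ← h4, ← h3]; ring
    rw [h7]
    exact P.not_dvd_index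
  have hFp : IsPGroup 2 (F.subgroupOf N₁) :=
    (P.isPGroup'.to_le hFP).of_equiv (Subgroup.subgroupOfEquivOfLe hFN₁).symm
  set P₁ : Sylow 2 N₁ := hFp.toSylow hFidx with hP₁def
  have hP₁ : (P₁ : Subgroup N₁) = F.subgroupOf N₁ := rfl
  have hmem₁ : ∀ x : N₁, x ∈ (P₁ : Subgroup N₁) ↔ (x : G) ∈ F := fun x => by
    rw [hP₁, Subgroup.mem_subgroupOf]
  -- elements of the normalizer and their actions on `F`
  have hCn : ∀ n ∈ Nz, (∀ y ∈ F, n * y = y * n) → n ∈ C := by
    intro n hn hy
    have : (P : Subgroup G) ≤ Subgroup.centralizer ({n} : Set G) := by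
      rw [← hFsup, sup_le_iff]
      exact ⟨fun y hyF => Subgroup.mem_centralizer_singleton_iff.2 (hy y hyF).symm,
        fun z hz => Subgroup.mem_centralizer_singleton_iff.2
          (Subgroup.mem_centralizer_iff.1 hz.2 n hn).symm⟩
    exact Subgroup.mem_centralizer_iff.2 fun x hx => Subgroup.mem_centralizer_singleton_iff.1 (this hx)
  obtain ⟨n₀, hn₀, hn₀C, -⟩ := exists_generator P hab he
  set K := C.subgroupOf Nz with hK
  haveI hKn : K.Normal := by
    rw [hK, ← Subgroup.normalizerMonoidHom_ker]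
    exact MonoidHom.normal_ker _
  haveI : Fact (Nat.card (Nz ⧸ K)).Prime := ⟨he⟩
  have hfix : ∀ n ∈ Nz, n ∉ C → ∀ x ∈ F, n * x * n⁻¹ = x → x = 1 := by
    intro n hn hnC x hx hnx
    have hgen : ∀ g ∈ Nz, g * x = x * g := by
      intro g hg
      have hne : (QuotientGroup.mk' K ⟨n, hn⟩) ≠ 1 := fun h => hnC (by
        rwa [QuotientGroup.mk'_apply, QuotientGroup.eq_one_iff, hK, Subgroup.mem_subgroupOf] at h)
      obtain ⟨i, hi⟩ := Subgroup.mem_zpowers_iff.1
        (zpowers_eq_top_of_prime_card (p := Nat.card (Nz ⧸ K)) rfl hne ▸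
          Subgroup.mem_top (QuotientGroup.mk' K ⟨g, hg⟩))
      rw [← map_zpow, QuotientGroup.mk'_apply, QuotientGroup.mk'_apply, QuotientGroup.eq, hK,
        Subgroup.mem_subgroupOf] at hi
      have h1 : Commute (((⟨n, hn⟩ : Nz) ^ i)⁻¹ * ⟨g, hg⟩ : Nz).1 x :=
        (Subgroup.mem_centralizer_iff.1 hi x (hFP hx)).symm
      have h2 : Commute (n ^ i) x := (show Commute n x from mul_inv_eq_iff_eq_mul.1 hnx).zpow_left i
      have := h2.mul_left h1
      simpa using this.eq
    have hxZ : x ∈ N₁ ⊓ Z :=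
      ⟨hFN₁ hx, hFP hx, Subgroup.mem_centralizer_iff.2 fun g hg => hgen g hg⟩
    rw [hinf] at hxZ
    exact Subgroup.mem_bot.1 hxZ
  -- Frattini
  have hfrat : ∀ u ∈ Subgroup.normalizer (F : Set G), ∃ n ∈ Nz, ∀ y ∈ F, n * y * n⁻¹ = u * y * u⁻¹ := by
    intro u hu
    set D := Subgroup.centralizer (F : Set G) with hD
    have hPD : (P : Subgroup G) ≤ D := fun x hx =>
      Subgroup.mem_centralizer_iff.2 fun y hy => hab y (hFP hy) x hx
    have huD : u ∈ Subgroup.normalizer (D : Set G) :=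
      CfsgLib.Blocks.Pairs.normalizer_le_normalizer_centralizer _ hu
    have hPuD : ((u • P : Sylow 2 G) : Subgroup G) ≤ D := by
      intro x hx
      rw [Sylow.coe_subgroup_smul, Subgroup.mem_pointwise_smul_iff_inv_smul_mem] at hx
      have h1 : u⁻¹ * x * u ∈ D := hPD (by simpa [mul_assoc, MulAut.conj] using hx)
      simpa [mul_assoc] using (Subgroup.mem_normalizer_iff.1 huD _).1 h1
    obtain ⟨c, hc⟩ := MulAction.exists_smul_eq D ((u • P).subtype hPuD) (P.subtype hPD)
    refine ⟨(c : G) * u, ?_, fun y hy => ?_⟩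
    · refine Subgroup.mem_normalizer_iff_map_conj_eq.2 ?_
      ext x
      have hiff : ∀ x : D, (c : D)⁻¹ * x * c ∈ ((u • P).subtype hPuD : Subgroup D) ↔
          x ∈ (P.subtype hPD : Subgroup D) := fun x => by
        rw [← hc, Sylow.coe_subgroup_smul, Subgroup.mem_pointwise_smul_iff_inv_smul_mem]
        simp [MulAut.conj, mul_assoc]
      constructor
      · rintro ⟨w, hw, rfl⟩
        have hwD : (c : G) * (u * w * u⁻¹) * (c : G)⁻¹ ∈ D := by
          refine D.mul_mem (D.mul_mem c.2 (hPuD ?_)) (D.inv_mem c.2)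
          rw [Sylow.coe_subgroup_smul, Subgroup.mem_pointwise_smul_iff_inv_smul_mem]
          simp [MulAut.conj, mul_assoc]
          exact hw
        have h := (hiff ⟨_, hwD⟩).1 (by
          rw [Sylow.coe_subtype, Subgroup.mem_subgroupOf, Sylow.coe_subgroup_smul,
            Subgroup.mem_pointwise_smul_iff_inv_smul_mem]
          simp [MulAut.conj, mul_assoc]
          exact hw)
        rw [Sylow.coe_subtype, Subgroup.mem_subgroupOf] at h
        simpa [MulAut.conj, mul_assoc] using h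
      · intro hx
        have h := (hiff ⟨x, hPD hx⟩).2 (by rwa [Sylow.coe_subtype, Subgroup.mem_subgroupOf])
        rw [Sylow.coe_subtype, Subgroup.mem_subgroupOf, Sylow.coe_subgroup_smul,
          Subgroup.mem_pointwise_smul_iff_inv_smul_mem] at h
        exact ⟨((c : G) * u)⁻¹ * x * ((c : G) * u), by simp [MulAut.conj, mul_assoc] at h ⊢; exact h,
          by simp [mul_assoc]⟩
    · have hy' : u * y * u⁻¹ ∈ F := (Subgroup.mem_normalizer_iff.1 hu y).1 hy
      calc (c : G) * u * y * ((c : G) * u)⁻¹ = (c : G) * (u * y * u⁻¹) * (c : G)⁻¹ := by group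
        _ = u * y * u⁻¹ := by rw [← Subgroup.mem_centralizer_iff.1 c.2 _ hy', mul_inv_cancel_right]
  have hnorm₁ : ∀ u : N₁, u ∈ Subgroup.normalizer ((P₁ : Subgroup N₁) : Set N₁) →
      (u : G) ∈ Subgroup.normalizer (F : Set G) := by
    intro u hu
    refine Subgroup.mem_normalizer_iff.2 fun y => ⟨fun hy => ?_, fun hy => ?_⟩
    · have := (Subgroup.mem_normalizer_iff.1 hu ⟨y, hFN₁ hy⟩).1 ((hmem₁ _).2 hy)
      exact (hmem₁ _).1 this
    · have hyN : y ∈ N₁ := by
        have := N₁.mul_mem (N₁.mul_mem (N₁.inv_mem u.2) (hFN₁ hy)) u.2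
        simpa [mul_assoc] using this
      exact (hmem₁ _).1 ((Subgroup.mem_normalizer_iff.1 hu ⟨y, hyN⟩).2 ((hmem₁ _).2 hy))
  have hNzF : ∀ n ∈ Nz, n ∈ Subgroup.normalizer (F : Set G) := by
    intro n hn
    refine Subgroup.mem_normalizer_iff.2 fun y => ?_
    have hN1 : y ∈ N₁ ↔ n * y * n⁻¹ ∈ N₁ := ⟨fun h => Subgroup.Normal.conj_mem inferInstance y h n,
      fun h => by
        simpa [mul_assoc] using Subgroup.Normal.conj_mem (inferInstance : N₁.Normal) _ h n⁻¹⟩
    rw [← hN₁P, Subgroup.mem_inf, Subgroup.mem_inf, ← hN1, ← Subgroup.mem_normalizer_iff.1 hn y]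
  have hfree₁ : ∀ n ∈ Subgroup.normalizer ((P₁ : Subgroup N₁) : Set N₁), ∀ x ∈ (P₁ : Subgroup N₁),
      x ≠ 1 → n * x * n⁻¹ = x → n ∈ Subgroup.centralizer ((P₁ : Subgroup N₁) : Set N₁) := by
    intro u hu x hx hx1 hux
    obtain ⟨n, hn, hact⟩ := hfrat u (hnorm₁ u hu)
    have hxF := (hmem₁ x).1 hx
    have hnC : n ∈ C := by
      by_contra hnC
      exact hx1 (Subtype.ext (hfix n hn hnC x hxF ((hact x hxF).trans (congrArg Subtype.val hux))))
    refine Subgroup.mem_centralizer_iff.2 fun y hy => Subtype.ext ?_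
    have h1 := hact y ((hmem₁ y).1 hy)
    rw [← Subgroup.mem_centralizer_iff.1 hnC y (hFP ((hmem₁ y).1 hy)), mul_inv_cancel_right] at h1
    exact eq_mul_inv_iff_mul_eq.1 h1
  have hquot : IsPGroup 2 (G ⧸ N₁.normalCore) := by
    refine IsPGroup.of_equiv ?_
      (QuotientGroup.quotientMulEquivOfEq (Subgroup.normalCore_eq_self N₁).symm)
    refine P.isPGroup'.of_surjective ((QuotientGroup.mk' N₁).comp (P : Subgroup G).subtype) ?_
    intro q
    obtain ⟨g, rfl⟩ := QuotientGroup.mk'_surjective N₁ q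
    obtain ⟨a, ha, b, hb, rfl⟩ := Subgroup.mem_sup_of_normal_left.1 (htop ▸ Subgroup.mem_top g)
    exact ⟨⟨b, hb⟩, by simp [(QuotientGroup.eq_one_iff a).2 ha]⟩
  have hindex : (Subgroup.centralizer ((P₁ : Subgroup N₁) : Set N₁)).relIndex
      (Subgroup.normalizer ((P₁ : Subgroup N₁) : Set N₁)) = C.relIndex Nz := by
    -- both sides are the order of the group of automorphisms induced on `F`
    set ψ : Subgroup.normalizer (F : Set G) →* MulAut F := Subgroup.normalizerMonoidHom F
    let f₁ : Subgroup.normalizer ((P₁ : Subgroup N₁) : Set N₁) →* MulAut F :=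
      ψ.comp ((N₁.subtype.comp (Subgroup.normalizer ((P₁ : Subgroup N₁) : Set N₁)).subtype).codRestrict
        _ fun u => hnorm₁ u.1 u.2)
    let f : Nz →* MulAut F := ψ.comp (Nz.subtype.codRestrict _ fun n => hNzF n n.2)
    have hker₁ : f₁.ker = (Subgroup.centralizer ((P₁ : Subgroup N₁) : Set N₁)).subgroupOf _ := by
      ext u
      rw [MonoidHom.mem_ker, Subgroup.mem_subgroupOf, Subgroup.mem_centralizer_iff]
      constructor
      · intro h y hy
        refine Subtype.ext ?_
        have := congrArg (fun e : MulAut F => (e ⟨y, (hmem₁ y).1 hy⟩ : G)) h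
        exact (mul_inv_eq_iff_eq_mul.1 this).symm
      · intro h
        refine MulEquiv.ext fun y => Subtype.ext ?_
        show ((u : N₁) : G) * (y : G) * ((u : N₁) : G)⁻¹ = y
        rw [mul_inv_eq_iff_eq_mul]
        exact (congrArg Subtype.val (h ⟨y, hFN₁ y.2⟩ ((hmem₁ _).2 y.2))).symm
    have hker : f.ker = C.subgroupOf Nz := by
      ext n
      rw [MonoidHom.mem_ker, Subgroup.mem_subgroupOf]
      constructor
      · intro h
        refine hCn n n.2 fun y hy => ?_
        exact mul_inv_eq_iff_eq_mul.1 (congrArg (fun e : MulAut F => (e ⟨y, hy⟩ : G)) h)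
      · intro h
        refine MulEquiv.ext fun y => Subtype.ext ?_
        show (n : G) * (y : G) * (n : G)⁻¹ = y
        rw [← Subgroup.mem_centralizer_iff.1 h y (hFP y.2), mul_inv_cancel_right]
    have hrange : f₁.range = f.range := by
      refine le_antisymm ?_ ?_
      · rintro _ ⟨u, rfl⟩
        obtain ⟨n, hn, hact⟩ := hfrat u.1 (hnorm₁ u.1 u.2)
        exact ⟨⟨n, hn⟩, MulEquiv.ext fun y => Subtype.ext (hact y y.2)⟩
      · rintro _ ⟨n, rfl⟩
        -- a power of `n` prime to the index lies in `N₁` and acts as a generator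
        obtain ⟨a, ha⟩ := hquot (QuotientGroup.mk (n : G))
        rw [← QuotientGroup.mk_pow, QuotientGroup.eq_one_iff, Subgroup.normalCore_eq_self] at ha
        set r := 2 ^ a
        have hu₁ : (⟨(n : G) ^ r, ha⟩ : N₁) ∈ Subgroup.normalizer ((P₁ : Subgroup N₁) : Set N₁) := by
          refine Subgroup.mem_normalizer_iff.2 fun y => ?_
          rw [hmem₁, hmem₁]
          exact Subgroup.mem_normalizer_iff.1 (Subgroup.pow_mem _ (hNzF n n.2) r) _
        have hne2 : C.relIndex Nz ≠ 2 := by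
          intro h2
          have h4 : C.relIndex Nz ∣ (P : Subgroup G).index := by
            refine dvd_trans ?_ (Subgroup.index_dvd_of_le (show (P : Subgroup G) ≤ C from fun x hx =>
              Subgroup.mem_centralizer_iff.2 fun y hy => hab y hy x hx))
            exact Subgroup.relIndex_dvd_index_of_le
              (Subgroup.centralizer_le_normalizer ((P : Subgroup G) : Set G))
          rw [h2] at h4; exact P.not_dvd_index h4
        have hr : Nat.Coprime r (C.relIndex Nz) :=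
          Nat.Coprime.pow_left _ ((Nat.coprime_primes Nat.prime_two he).2 fun h => hne2 h.symm)
        have hne : (f n) ^ C.relIndex Nz = 1 := by
          rw [← map_pow]
          refine MonoidHom.mem_ker.1 ?_
          rw [hker]
          exact Subgroup.pow_index_mem K n
        obtain ⟨m, hm⟩ := exists_pow_eq_self_of_coprime (x := f n) (n := r)
          (hr.coprime_dvd_right (orderOf_dvd_of_pow_eq_one hne))
        refine ⟨(⟨_, hu₁⟩ : Subgroup.normalizer ((P₁ : Subgroup N₁) : Set N₁)) ^ m, ?_⟩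
        rw [map_pow]
        conv_rhs => rw [← hm]
        congr 1
        refine MulEquiv.ext fun y => Subtype.ext ?_
        rw [← map_pow]
        rfl
    rw [Subgroup.relIndex, Subgroup.relIndex, ← hker₁, ← hker, Subgroup.index_ker,
      Subgroup.index_ker, hrange]
  refine ⟨N₁, P₁, inferInstance, fun x hx y hy => Subtype.ext (hab _ (hFP ((hmem₁ x).1 hx)) _
    (hFP ((hmem₁ y).1 hy))), hfree₁, hindex, hquot, hsup, hinf, ?_⟩
  show Nat.card (P : Subgroup G) = _
  rw [hcardP, hP₁, Nat.card_congr (Subgroup.subgroupOfEquivOfLe hFN₁).toEquiv]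

end CfsgLib.CoreEmbedded
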