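import Cfsg.Agent.Lib.CoreEmbedded.Reduction

/-!
# The principal block reduces to the free part
-/

set_option autoImplicit false
set_option linter.unusedSectionVars false
set_option linter.style.haveILetI false
set_option maxHeartbeats 1000000

open Cfsg CfsgLib.Blocks

namespace CfsgLib.CoreEmbedded

universe u

theorem counts {M : Ideal AlgInt} (hM : IsPModular 2 M) : ∀ (k : ℕ) (G : Type u) [Group G]
    [Finite G], Nat.card G = k → ∀ (P : Sylow 2 G),
    (∀ x ∈ (P : Subgroup G), ∀ y ∈ (P : Subgroup G), x * y = y * x) →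
    ((Subgroup.centralizer ((P : Subgroup G) : Set G)).relIndex
      (Subgroup.normalizer ((P : Subgroup G) : Set G))).Prime →
    blockRank 2 (principalBlock M G) = (Subgroup.centralizer ((P : Subgroup G) : Set G)).relIndex
      (Subgroup.normalizer ((P : Subgroup G) : Set G)) ∧
    ∃ m : ℕ, Nat.card P = Nat.card (fixedPart P) *
        (1 + (Subgroup.centralizer ((P : Subgroup G) : Set G)).relIndex
          (Subgroup.normalizer ((P : Subgroup G) : Set G)) * m) ∧
      Nat.card (principalBlock M G) = Nat.card (fixedPart P) *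
        ((Subgroup.centralizer ((P : Subgroup G) : Set G)).relIndex
          (Subgroup.normalizer ((P : Subgroup G) : Set G)) + m) := by
  intro k
  induction k using Nat.strong_induction_on with
  | _ k IH =>
  intro G _ _ hk P hab he
  classical
  have : Fact (Nat.Prime 2) := ⟨Nat.prime_two⟩
  haveI := hM.2.1
  haveI : CharP (ResField M) 2 := charP_resField hM.1 hM.2.2
  set Nz := Subgroup.normalizer ((P : Subgroup G) : Set G) with hNz
  by_cases hcen : fixedPart P ≤ Subgroup.center G
  · obtain ⟨N₁, P₁, hN₁, hab₁, hfree₁, he₁, -, hsup, hinf, hcard⟩ := exists_free_part P hab he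
    obtain ⟨hl, m, hm, hkm, -⟩ := counts_free P₁ hab₁ hfree₁ (he₁ ▸ he) hM
    obtain ⟨h1, h2⟩ := principalBlock_split (p := 2) N₁ (fixedPart P)
      (fun a _ z hz => (Subgroup.mem_center_iff.1 (hcen hz) a)) hsup hinf
      (fun a ha b hb => hab a ha.1 b hb.1) (P.isPGroup'.to_le inf_le_left) hM
    rw [he₁] at hl hm hkm
    exact ⟨h2.trans hl, m, by rw [hcard, hm], by rw [h1, hkm]⟩
  · obtain ⟨u, hu, huc⟩ := SetLike.not_le_iff_exists.1 hcen
    set H := Subgroup.centralizer ({u} : Set G) with hH
    have hfix : ∀ g ∈ Nz, g * u * g⁻¹ = u := fun g hg => by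
      rw [Subgroup.mem_centralizer_iff.1 hu.2 g hg, mul_inv_cancel_right]
    have hPH : (P : Subgroup G) ≤ H := fun x hx =>
      Subgroup.mem_centralizer_singleton_iff.2 (hab x hx u hu.1)
    have hNH : Nz ≤ H := fun g hg =>
      Subgroup.mem_centralizer_singleton_iff.2 (mul_inv_eq_iff_eq_mul.1 (hfix g hg))
    have hlt : Nat.card H < k := by
      rw [← hk]
      refine lt_of_le_of_ne (Subgroup.card_le_card_group H) fun e => huc ?_
      have htop := Subgroup.eq_top_of_card_eq H e
      exact Subgroup.mem_center_iff.2 fun g =>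
        Subgroup.mem_centralizer_singleton_iff.1 (htop.ge (Subgroup.mem_top g))
    set Q : Sylow 2 H := P.subtype hPH with hQ
    have hQmem : ∀ x : H, x ∈ (Q : Subgroup H) ↔ (x : G) ∈ (P : Subgroup G) := fun x => by
      rw [hQ, Sylow.coe_subtype, Subgroup.mem_subgroupOf]
    have hnorm : Subgroup.normalizer ((Q : Subgroup H) : Set H) = Nz.subgroupOf H := by
      ext g
      rw [Subgroup.mem_subgroupOf, hNz, Subgroup.mem_normalizer_iff, Subgroup.mem_normalizer_iff]
      constructor
      · intro h y
        constructor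
        · intro hy
          exact (hQmem _).1 ((h ⟨y, hPH hy⟩).1 ((hQmem _).2 hy))
        · intro hy
          have hyH : y ∈ H := by
            have := H.mul_mem (H.mul_mem (H.inv_mem g.2) (hPH hy)) g.2
            simpa [mul_assoc] using this
          exact (hQmem _).1 ((h ⟨y, hyH⟩).2 ((hQmem _).2 hy))
      · intro h y
        rw [hQmem, hQmem]
        exact h y
    have hcent : Subgroup.centralizer ((Q : Subgroup H) : Set H) =
        (Subgroup.centralizer ((P : Subgroup G) : Set G)).subgroupOf H := by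
      ext g
      rw [Subgroup.mem_subgroupOf, Subgroup.mem_centralizer_iff, Subgroup.mem_centralizer_iff]
      exact ⟨fun h y hy => congrArg Subtype.val (h ⟨y, hPH hy⟩ ((hQmem _).2 hy)),
        fun h y hy => Subtype.ext (h y ((hQmem y).1 hy))⟩
    have hidx : (Subgroup.centralizer ((Q : Subgroup H) : Set H)).relIndex
        (Subgroup.normalizer ((Q : Subgroup H) : Set H)) =
        (Subgroup.centralizer ((P : Subgroup G) : Set G)).relIndex Nz := by
      rw [hnorm, hcent, Subgroup.relIndex_subgroupOf hNH]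
    have hcardQ : Nat.card Q = Nat.card P := by
      rw [hQ, Sylow.coe_subtype]
      exact Nat.card_congr (Subgroup.subgroupOfEquivOfLe hPH).toEquiv
    have hfixed : Nat.card (fixedPart Q) = Nat.card (fixedPart P) := by
      refine Nat.card_eq_of_bijective (fun z : fixedPart Q => (⟨((z : H) : G),
        (hQmem _).1 z.2.1, Subgroup.mem_centralizer_iff.2 fun g hg => ?_⟩ : fixedPart P))
        ⟨fun a b e => Subtype.ext (Subtype.ext (congrArg Subtype.val e :)), fun z => ?_⟩
      · exact congrArg Subtype.val (Subgroup.mem_centralizer_iff.1 z.2.2 ⟨g, hNH hg⟩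
          (hnorm ▸ hg))
      · exact ⟨⟨⟨(z : G), hPH z.2.1⟩, (hQmem _).2 z.2.1, Subgroup.mem_centralizer_iff.2 fun g hg =>
          Subtype.ext (Subgroup.mem_centralizer_iff.1 z.2.2 g (by
            rw [SetLike.mem_coe, hnorm] at hg; exact hg))⟩, rfl⟩
    obtain ⟨hl, m, hm, hkm⟩ := IH _ hlt H rfl Q
      (fun x hx y hy => Subtype.ext (hab _ ((hQmem x).1 hx) _ ((hQmem y).1 hy))) (hidx ▸ he)
    obtain ⟨hw1, hw2⟩ := principal_watanabe hM P hab hu.1 hfix
    rw [hidx] at hl hm hkm
    rw [hfixed] at hm hkm
    rw [hcardQ] at hm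
    exact ⟨hw1.trans hl, m, hm, hw2.trans hkm⟩

end CfsgLib.CoreEmbedded
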